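import Groth.Agent.ASFam.Fix

/-!
# The automorphisms of `R[u_i] / (u_i ^ p - a_i ^ (p-1) u_i - c_i)` in characteristic `p`
-/

set_option autoImplicit false

universe u v

noncomputable section

namespace Groth.Agent.ASFam

variable {R : Type u} [CommRing R] {ι : Type v} (p : ℕ) [Fact p.Prime] [CharP R p] (a : ι → R) (c : ι → R)

instance fact_two_le : Fact (2 ≤ p) := ⟨(Fact.out : p.Prime).two_le⟩

theorem shift_root {S : Type*} [CommRing S] [Algebra R S] [CharP S p] (j : ι → ZMod p) (x : ι → S)
    (hx : ∀ i, x i ^ p = algebraMap R S (a i ^ (p - 1)) * x i + algebraMap R S (c i)) (i : ι) :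
    (x i + ZMod.castHom (dvd_refl p) S (j i) * algebraMap R S (a i)) ^ p =
      algebraMap R S (a i ^ (p - 1)) * (x i + ZMod.castHom (dvd_refl p) S (j i) * algebraMap R S (a i)) +
        algebraMap R S (c i) := by
  have hp : p - 1 + 1 = p := Nat.sub_add_cancel (Fact.out : p.Prime).one_le
  have hj : ZMod.castHom (dvd_refl p) S (j i) ^ p = ZMod.castHom (dvd_refl p) S (j i) := by
    rw [← map_pow, ZMod.pow_card]
  have ha : algebraMap R S (a i) ^ p = algebraMap R S (a i ^ (p - 1)) * algebraMap R S (a i) := by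
    rw [← map_mul, ← pow_succ, hp, map_pow]
  rw [add_pow_char, hx, mul_pow, hj, ha]
  ring

variable [Fintype ι]

theorem charP_alg : CharP (Alg p (fun i => a i ^ (p - 1)) c) p :=
  charP_of_injective_algebraMap (algebraMap_injective p _ c) p

/-- The endomorphism `u_i ↦ u_i + j_i a_i`. -/
def shift (j : ι → ZMod p) :
    Alg p (fun i => a i ^ (p - 1)) c →ₐ[R] Alg p (fun i => a i ^ (p - 1)) c :=
  haveI := charP_alg p a c
  lift p _ c (fun i => gen p _ c i + ZMod.castHom (dvd_refl p) _ (j i) * algebraMap R _ (a i))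
    (fun i => shift_root p a c j (gen p _ c) (gen_pow p _ c) i)

theorem castHom_zmod {S : Type*} [CommRing S] [CharP S p] {T : Type*} [CommRing T] [CharP T p]
    {F : Type*} [FunLike F S T] [RingHomClass F S T] (f : F) (z : ZMod p) :
    f (ZMod.castHom (dvd_refl p) S z) = ZMod.castHom (dvd_refl p) T z := by
  obtain ⟨m, rfl⟩ := ZMod.natCast_zmod_surjective z
  simp

theorem shift_gen [CharP (Alg p (fun i => a i ^ (p - 1)) c) p] (j : ι → ZMod p) (i : ι) :
    shift p a c j (gen p _ c i) =
      gen p _ c i + ZMod.castHom (dvd_refl p) _ (j i) * algebraMap R _ (a i) :=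
  lift_gen p _ c _ _ i

theorem shift_comp (j j' : ι → ZMod p) : (shift p a c j).comp (shift p a c j') = shift p a c (j + j') := by
  haveI := charP_alg p a c
  refine algHom_ext p _ c fun i => ?_
  rw [AlgHom.comp_apply, shift_gen, shift_gen, map_add, map_mul, AlgHom.commutes,
    castHom_zmod p, shift_gen, Pi.add_apply, map_add]
  ring

theorem shift_zero : shift p a c 0 = AlgHom.id R _ := by
  haveI := charP_alg p a c
  refine algHom_ext p _ c fun i => ?_
  rw [shift_gen, Pi.zero_apply, map_zero, zero_mul, add_zero, AlgHom.id_apply]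

/-- The automorphism `u_i ↦ u_i + j_i a_i`. -/
def shiftEquiv (j : ι → ZMod p) :
    Alg p (fun i => a i ^ (p - 1)) c ≃ₐ[R] Alg p (fun i => a i ^ (p - 1)) c :=
  AlgEquiv.ofAlgHom (shift p a c j) (shift p a c (-j))
    (by rw [shift_comp, add_neg_cancel, shift_zero]) (by rw [shift_comp, neg_add_cancel, shift_zero])

theorem shiftEquiv_gen [CharP (Alg p (fun i => a i ^ (p - 1)) c) p] (j : ι → ZMod p) (i : ι) :
    shiftEquiv p a c j (gen p _ c i) =
      gen p _ c i + ZMod.castHom (dvd_refl p) _ (j i) * algebraMap R _ (a i) :=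
  shift_gen p a c j i

theorem shiftEquiv_add (j j' : ι → ZMod p) :
    shiftEquiv p a c (j + j') = shiftEquiv p a c j * shiftEquiv p a c j' := by
  apply AlgEquiv.ext
  intro x
  exact (DFunLike.congr_fun (shift_comp p a c j j') x).symm

theorem shiftEquiv_zero : shiftEquiv p a c 0 = 1 := by
  apply AlgEquiv.ext
  intro x
  exact DFunLike.congr_fun (shift_zero p a c) x

/-- The shifts as a homomorphism. -/
def shiftHom : Multiplicative (ι → ZMod p) →*
    (Alg p (fun i => a i ^ (p - 1)) c ≃ₐ[R] Alg p (fun i => a i ^ (p - 1)) c) where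
  toFun j := shiftEquiv p a c j.toAdd
  map_one' := shiftEquiv_zero p a c
  map_mul' _ _ := shiftEquiv_add p a c _ _

theorem algEquiv_ext {σ τ : Alg p (fun i => a i ^ (p - 1)) c ≃ₐ[R] Alg p (fun i => a i ^ (p - 1)) c}
    (h : ∀ i, σ (gen p _ c i) = τ (gen p _ c i)) : σ = τ := by
  have := algHom_ext p _ c (f := σ.toAlgHom) (g := τ.toAlgHom) h
  exact AlgEquiv.ext fun x => DFunLike.congr_fun this x

section Domain

variable [IsDomain (Alg p (fun i => a i ^ (p - 1)) c)] (ha : ∀ i, a i ≠ 0)

theorem eq_castHom_of_pow {K : Type*} [CommRing K] [IsDomain K] [CharP K p] {t α : K} (hα : α ≠ 0)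
    (h : t ^ p = α ^ (p - 1) * t) : ∃ z : ZMod p, t = ZMod.castHom (dvd_refl p) K z * α := by
  classical
  let P : Polynomial K := Polynomial.X ^ p - Polynomial.C (α ^ (p - 1)) * Polynomial.X
  have hp : p - 1 + 1 = p := Nat.sub_add_cancel (Fact.out : p.Prime).one_le
  have hroot : ∀ z : ZMod p, P.IsRoot (ZMod.castHom (dvd_refl p) K z * α) := by
    intro z
    simp only [P, Polynomial.IsRoot, Polynomial.eval_sub, Polynomial.eval_pow, Polynomial.eval_X,
      Polynomial.eval_mul, Polynomial.eval_C]
    rw [mul_pow, ← map_pow, ZMod.pow_card, mul_left_comm, ← pow_succ, hp, sub_self]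
  have hdeg : (Polynomial.C (α ^ (p - 1)) * Polynomial.X).degree < (p : WithBot ℕ) :=
    lt_of_le_of_lt (Polynomial.degree_C_mul_X_le _) (by exact_mod_cast (Fact.out : p.Prime).one_lt)
  have hPdeg : P.natDegree = p := by
    refine Polynomial.natDegree_eq_of_degree_eq_some ?_
    rw [Polynomial.degree_sub_eq_left_of_degree_lt (by rw [Polynomial.degree_X_pow]; exact hdeg),
      Polynomial.degree_X_pow]
  by_contra hne
  push Not at hne
  have hP0 : P = 0 := by
    refine Polynomial.eq_zero_of_natDegree_lt_card_of_eval_eq_zero P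
      (f := fun o : Option (ZMod p) => o.elim t fun z => ZMod.castHom (dvd_refl p) K z * α) ?_ ?_ ?_
    · rintro (_ | z) (_ | z') hzz
      · rfl
      · exact absurd hzz (hne z')
      · exact absurd hzz.symm (hne z)
      · exact congrArg some ((ZMod.castHom (dvd_refl p) K).injective (mul_right_cancel₀ hα hzz))
    · rintro (_ | z)
      · simp [P, h]
      · exact hroot z
    · rw [Fintype.card_option, ZMod.card, hPdeg]; omega
  rw [hP0, Polynomial.natDegree_zero] at hPdeg
  exact (Fact.out : p.Prime).ne_zero hPdeg.symm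

include ha in
theorem exists_eq_shiftEquiv
    (σ : Alg p (fun i => a i ^ (p - 1)) c ≃ₐ[R] Alg p (fun i => a i ^ (p - 1)) c) :
    ∃ j, σ = shiftEquiv p a c j := by
  haveI := charP_alg p a c
  have hp : p - 1 + 1 = p := Nat.sub_add_cancel (Fact.out : p.Prime).one_le
  have hroot : ∀ i, ∃ z : ZMod p, σ (gen p _ c i) - gen p _ c i =
      ZMod.castHom (dvd_refl p) _ z * algebraMap R _ (a i) := by
    intro i
    refine eq_castHom_of_pow p (fun h => ha i (algebraMap_injective p _ c (h.trans (map_zero _).symm))) ?_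
    have h1 := congrArg σ (gen_pow p (fun i => a i ^ (p - 1)) c i)
    rw [map_pow, map_add, map_mul, AlgEquiv.commutes, AlgEquiv.commutes] at h1
    rw [sub_pow_char, h1, gen_pow, ← map_pow]
    ring
  choose j hj using hroot
  refine ⟨j, algEquiv_ext p a c fun i => ?_⟩
  rw [shiftEquiv_gen, ← hj i]
  ring

include ha in
theorem bijective_shiftHom : Function.Bijective (shiftHom p a c) := by
  haveI := charP_alg p a c
  refine ⟨fun j j' h => ?_, fun σ => ?_⟩
  · refine Multiplicative.toAdd.injective (funext fun i => ?_)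
    have h1 := DFunLike.congr_fun h (gen p _ c i)
    change shiftEquiv p a c j.toAdd _ = shiftEquiv p a c j'.toAdd _ at h1
    rw [shiftEquiv_gen, shiftEquiv_gen] at h1
    exact (ZMod.castHom (dvd_refl p) (Alg p (fun i => a i ^ (p - 1)) c)).injective (mul_right_cancel₀
      (fun h => ha i (algebraMap_injective p _ c (h.trans (map_zero _).symm))) (add_left_cancel h1))
  · obtain ⟨j, rfl⟩ := exists_eq_shiftEquiv p a c ha σ
    exact ⟨Multiplicative.ofAdd j, rfl⟩

omit [IsDomain (Alg p (fun i => a i ^ (p - 1)) c)] in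
/-- The shift at a single index. -/
theorem single_spec [DecidableEq ι] (j : ι) :
    shift p a c (Pi.single j 1) (gen p _ c j) = gen p _ c j + algebraMap R _ (a j) ∧
      ∀ i, i ≠ j → shift p a c (Pi.single j 1) (gen p _ c i) = gen p _ c i := by
  haveI := charP_alg p a c
  refine ⟨?_, fun i hi => ?_⟩
  · rw [shift_gen, Pi.single_eq_same, map_one, one_mul]
  · rw [shift_gen, Pi.single_eq_of_ne hi, map_zero, zero_mul, add_zero]

include ha in
theorem mem_range_of_fixed (t : Alg p (fun i => a i ^ (p - 1)) c)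
    (h : ∀ j, shift p a c j t = t) : t ∈ Set.range (algebraMap R (Alg p (fun i => a i ^ (p - 1)) c)) := by
  classical
  haveI := charP_alg p a c
  let B := basis p (fun i => a i ^ (p - 1)) c
  have ht : t = ∑ e, B.repr t e • mono (gen p _ c) e := by
    conv_lhs => rw [← B.sum_repr t]
    exact Finset.sum_congr rfl fun e _ => by rw [basis_apply]
  let z : ι → Fin p := fun _ => ⟨0, (Fact.out : p.Prime).pos⟩
  refine ⟨B.repr t z, ?_⟩
  conv_rhs => rw [ht]
  rw [Finset.sum_eq_single z]
  · simp [mono, z, Algebra.algebraMap_eq_smul_one]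
  · intro e _ he
    obtain ⟨i, hi⟩ := Function.ne_iff.1 he
    rw [eq_zero_of_fixed (algebraMap_injective p _ c) (gen p _ c)
      (fun j => shift p a c (Pi.single j 1)) (fun j => algebraMap R _ (a j)) (r := ⇑(B.repr t)) (e := e)
      (fun j h => ha j (algebraMap_injective p _ c (h.trans (map_zero _).symm)))
      (fun j => (single_spec p a c j).1) (fun j => AlgHom.commutes _ _)
      (fun j => (single_spec p a c j).2) i (by rw [← ht]; exact h _)
      (fun h0 => hi (Fin.ext h0)), zero_smul]
  · exact fun h' => absurd (Finset.mem_univ _) h'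

end Domain

end Groth.Agent.ASFam
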