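import Mathlib

/-!
# A criterion for `B[1/s]` to be integrally closed
-/

set_option autoImplicit false

universe u

namespace Groth.Agent.ASFam

/-- If `B ⊆ A` with `A` a normal domain and every element of `A` in the fraction field of `B` lies in `B[1/s]`,
then `B[1/s]` is integrally closed. -/
theorem isIntegrallyClosed_away {B A : Type u} [CommRing B] [IsDomain B] [CommRing A] [IsDomain A]
    [IsIntegrallyClosed A] (φ : B →+* A) (hφ : Function.Injective φ) (s : B) (hs : s ≠ 0)
    (h : ∀ (b d : B) (t : A), d ≠ 0 → φ d * t = φ b → ∃ (N : ℕ) (b' : B), φ s ^ N * t = φ b') :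
    IsIntegrallyClosed (Localization.Away s) := by
  classical
  have hle : Submonoid.powers s ≤ nonZeroDivisors B := powers_le_nonZeroDivisors_of_noZeroDivisors hs
  haveI : IsDomain (Localization.Away s) := IsLocalization.isDomain_localization hle
  set L := FractionRing B
  letI : Algebra (Localization.Away s) L :=
    IsLocalization.localizationAlgebraOfSubmonoidLe (Localization.Away s) L (Submonoid.powers s)
      (nonZeroDivisors B) hle
  haveI : IsScalarTower B (Localization.Away s) L :=
    IsLocalization.localization_isScalarTower_of_submonoid_le (Localization.Away s) L (Submonoid.powers s)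
      (nonZeroDivisors B) hle
  haveI : IsFractionRing (Localization.Away s) L :=
    IsFractionRing.isFractionRing_of_isDomain_of_isLocalization (Submonoid.powers s) (Localization.Away s) L
  refine (isIntegrallyClosed_iff L).2 fun {x} hx => ?_
  obtain ⟨⟨m, hm⟩, hm'⟩ := IsIntegral.exists_multiple_integral_of_isLocalization (Submonoid.powers s) x hx
  rw [Submonoid.smul_def, Algebra.smul_def] at hm'
  obtain ⟨j, rfl⟩ := hm
  dsimp only at hm'
  set y := algebraMap B L (s ^ j) * x with hy
  obtain ⟨b, d, hd, hyd⟩ := IsFractionRing.div_surjective (A := B) y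
  have hginj : Function.Injective ((algebraMap A (FractionRing A)).comp φ) :=
    (IsFractionRing.injective A (FractionRing A)).comp hφ
  let f : L →+* FractionRing A := IsFractionRing.lift (g := (algebraMap A (FractionRing A)).comp φ) hginj
  have hf : ∀ z : B, f (algebraMap B L z) = algebraMap A (FractionRing A) (φ z) := fun z =>
    IsFractionRing.lift_algebraMap hginj z
  have hfy : IsIntegral A (f y) := by
    obtain ⟨P, hP, hPy⟩ := hm'
    refine ⟨P.map φ, hP.map φ, ?_⟩
    rw [Polynomial.eval₂_map]
    have := congrArg f hPy
    rw [map_zero, Polynomial.hom_eval₂] at this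
    rwa [show f.comp (algebraMap B L) = (algebraMap A (FractionRing A)).comp φ from RingHom.ext hf] at this
  obtain ⟨t, ht⟩ := IsIntegrallyClosed.isIntegral_iff.1 hfy
  have hd0 : d ≠ 0 := nonZeroDivisors.ne_zero hd
  have hdt : φ d * t = φ b := by
    refine IsFractionRing.injective A (FractionRing A) ?_
    rw [map_mul, ht, ← hf, ← hf, ← map_mul, ← hyd, mul_div_cancel₀]
    exact fun h0 => hd0 (IsFractionRing.injective B L (h0.trans (map_zero _).symm))
  obtain ⟨N, b', hb'⟩ := h b d t hd0 hdt
  have hkey : algebraMap B L (s ^ N) * y = algebraMap B L b' := by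
    refine f.injective ?_
    rw [map_mul, hf, hf, ← ht, ← map_mul, map_pow φ, hb']
  refine ⟨IsLocalization.mk' (Localization.Away s) b' (⟨s ^ (N + j), N + j, rfl⟩ : Submonoid.powers s), ?_⟩
  have h1 := congrArg (algebraMap (Localization.Away s) L)
    (IsLocalization.mk'_spec (Localization.Away s) b' (⟨s ^ (N + j), N + j, rfl⟩ : Submonoid.powers s))
  rw [map_mul, ← IsScalarTower.algebraMap_apply, ← IsScalarTower.algebraMap_apply, ← hkey, hy,
    ← mul_assoc, ← map_mul, ← pow_add, mul_comm] at h1
  refine mul_left_cancel₀ ?_ h1
  exact fun h0 => pow_ne_zero (N + j) hs (IsFractionRing.injective B L (h0.trans (map_zero _).symm))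

end Groth.Agent.ASFam
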