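import Mathlib

/-!
# The algebras `R[u_i] / (u_i ^ p - b_i u_i - c_i)`

Monomials with all exponents `< p` form an `R`-basis.
-/

set_option autoImplicit false

universe u v w

open MvPolynomial

noncomputable section

namespace Groth.Agent.ASFam

variable {R : Type u} [CommRing R] {ι : Type v}

/-- The ideal of relations. -/
abbrev ideal (p : ℕ) (b c : ι → R) : Ideal (MvPolynomial ι R) :=
  Ideal.span (Set.range fun i : ι => X i ^ p - C (b i) * X i - C (c i))

variable (p : ℕ) (b c : ι → R)

/-- The algebra `R[u_i] / (u_i ^ p - b_i u_i - c_i)`. -/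
abbrev Alg := MvPolynomial ι R ⧸ ideal p b c

/-- The generators `u_i`. -/
abbrev gen (i : ι) : Alg p b c := Ideal.Quotient.mk (ideal p b c) (X i)

theorem gen_pow (i : ι) :
    gen p b c i ^ p = algebraMap R (Alg p b c) (b i) * gen p b c i + algebraMap R (Alg p b c) (c i) := by
  have h : Ideal.Quotient.mk (ideal p b c) (X i ^ p - C (b i) * X i - C (c i)) = 0 :=
    Ideal.Quotient.eq_zero_iff_mem.2 (Ideal.subset_span ⟨i, rfl⟩)
  rw [map_sub, map_sub, map_mul, map_pow, sub_sub, sub_eq_zero] at h
  exact h

theorem algHom_ext {S : Type w} [CommSemiring S] [Algebra R S] {f g : Alg p b c →ₐ[R] S}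
    (h : ∀ i, f (gen p b c i) = g (gen p b c i)) : f = g :=
  Ideal.Quotient.algHom_ext _ (MvPolynomial.algHom_ext h)

theorem aeval_gen (q : MvPolynomial ι R) :
    MvPolynomial.aeval (gen p b c) q = Ideal.Quotient.mk (ideal p b c) q := by
  have : MvPolynomial.aeval (gen p b c) = Ideal.Quotient.mkₐ R (ideal p b c) :=
    MvPolynomial.algHom_ext fun i => by simp
  exact DFunLike.congr_fun this q

/-- The evaluation at a family satisfying the relations. -/
def lift {S : Type w} [CommRing S] [Algebra R S] (v : ι → S)
    (hv : ∀ i, v i ^ p = algebraMap R S (b i) * v i + algebraMap R S (c i)) : Alg p b c →ₐ[R] S :=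
  Ideal.Quotient.liftₐ (ideal p b c) (MvPolynomial.aeval v) fun q hq => by
    have hle : ideal p b c ≤ RingHom.ker (MvPolynomial.aeval v) := by
      rw [Ideal.span_le]
      rintro _ ⟨i, rfl⟩
      simp [RingHom.mem_ker, hv i]
    exact hle hq

theorem lift_gen {S : Type w} [CommRing S] [Algebra R S] (v : ι → S)
    (hv : ∀ i, v i ^ p = algebraMap R S (b i) * v i + algebraMap R S (c i)) (i : ι) :
    lift p b c v hv (gen p b c i) = v i := by
  rw [lift, gen]
  exact (Ideal.Quotient.liftₐ_apply _ _ _ _).trans (by simp)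

variable [Fintype ι]

/-- The monomial with exponent `e` in a family `v`. -/
abbrev mono {p : ℕ} {S : Type w} [CommMonoid S] (v : ι → S) (e : ι → Fin p) : S :=
  ∏ i, v i ^ (e i : ℕ)

section Span

variable {S : Type w} [CommRing S] [Algebra R S] {p} {b c}

theorem mul_mem_span_mono [Fact (2 ≤ p)] (v : ι → S)
    (hv : ∀ i, v i ^ p = algebraMap R S (b i) * v i + algebraMap R S (c i)) (j : ι) {t : S}
    (ht : t ∈ Submodule.span R (Set.range fun e : ι → Fin p => mono v e)) :
    v j * t ∈ Submodule.span R (Set.range fun e : ι → Fin p => mono v e) := by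
  classical
  have hp : 2 ≤ p := Fact.out
  induction ht using Submodule.span_induction with
  | zero => simp
  | add x y _ _ hx hy => rw [mul_add]; exact add_mem hx hy
  | smul r x _ hx => rw [mul_smul_comm]; exact Submodule.smul_mem _ r hx
  | mem x hx =>
    obtain ⟨e, rfl⟩ := hx
    have hupd : ∀ (m : Fin p), mono v (Function.update e j m) =
        v j ^ (m : ℕ) * ∏ i ∈ Finset.univ.erase j, v i ^ (e i : ℕ) := by
      intro m
      rw [mono, ← Finset.mul_prod_erase _ _ (Finset.mem_univ j), Function.update_self]
      exact congrArg _ (Finset.prod_congr rfl fun i hi => by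
        rw [Function.update_of_ne (Finset.ne_of_mem_erase hi)])
    have he : mono v e = v j ^ (e j : ℕ) * ∏ i ∈ Finset.univ.erase j, v i ^ (e i : ℕ) := by
      simpa using hupd (e j)
    show v j * mono v e ∈ _
    rw [he, ← mul_assoc, ← pow_succ']
    rcases lt_or_ge ((e j : ℕ) + 1) p with h | h
    · exact Submodule.subset_span ⟨Function.update e j ⟨_, h⟩, hupd ⟨_, h⟩⟩
    · have h' : (e j : ℕ) + 1 = p := le_antisymm (e j).2 h
      rw [h', hv j, add_mul, mul_assoc, ← Algebra.smul_def, ← Algebra.smul_def]
      refine add_mem (Submodule.smul_mem _ _ (Submodule.subset_span ⟨Function.update e j ⟨1, by omega⟩, ?_⟩))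
        (Submodule.smul_mem _ _ (Submodule.subset_span ⟨Function.update e j ⟨0, by omega⟩, ?_⟩))
      · exact (hupd _).trans (by simp)
      · exact (hupd _).trans (by simp)

theorem adjoin_le_span_mono [Fact (2 ≤ p)] (v : ι → S)
    (hv : ∀ i, v i ^ p = algebraMap R S (b i) * v i + algebraMap R S (c i)) :
    Subalgebra.toSubmodule (Algebra.adjoin R (Set.range v)) ≤
      Submodule.span R (Set.range fun e : ι → Fin p => mono v e) := by
  have hp : 2 ≤ p := Fact.out
  intro x hx
  rw [Subalgebra.mem_toSubmodule, Algebra.adjoin_range_eq_range_aeval] at hx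
  obtain ⟨q, rfl⟩ := hx
  show MvPolynomial.aeval v q ∈ _
  induction q using MvPolynomial.induction_on with
  | C r =>
    rw [MvPolynomial.aeval_C, Algebra.algebraMap_eq_smul_one]
    refine Submodule.smul_mem _ r (Submodule.subset_span ⟨fun _ => ⟨0, by omega⟩, ?_⟩)
    simp [mono]
  | add x y hx hy => rw [map_add]; exact add_mem hx hy
  | mul_X q i hq =>
    rw [map_mul, MvPolynomial.aeval_X, mul_comm]
    exact mul_mem_span_mono v hv i hq

end Span

theorem span_mono_eq_top [Fact (2 ≤ p)] :
    Submodule.span R (Set.range fun e : ι → Fin p => mono (gen p b c) e) = ⊤ := by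
  refine top_le_iff.1 fun x _ => adjoin_le_span_mono (gen p b c) (gen_pow p b c) ?_
  obtain ⟨q, rfl⟩ := Ideal.Quotient.mk_surjective x
  rw [Subalgebra.mem_toSubmodule, Algebra.adjoin_range_eq_range_aeval]
  exact ⟨q, aeval_gen p b c q⟩

theorem linearIndependent_mono [Fact (2 ≤ p)] :
    LinearIndependent R fun e : ι → Fin p => mono (gen p b c) e := by
  classical
  rcases subsingleton_or_nontrivial R with hR | hR
  · exact linearIndependent_of_subsingleton
  have hp : 2 ≤ p := Fact.out
  let F : ι → Polynomial R := fun i =>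
    Polynomial.X ^ p - (Polynomial.C (b i) * Polynomial.X + Polynomial.C (c i))
  have hdeg : ∀ i, (Polynomial.C (b i) * Polynomial.X + Polynomial.C (c i)).degree < (p : WithBot ℕ) :=
    fun i => lt_of_le_of_lt Polynomial.degree_linear_le (by exact_mod_cast hp)
  have hF : ∀ i, (F i).Monic := fun i => Polynomial.monic_X_pow_sub (hdeg i)
  have hnat : ∀ i, (F i).natDegree = p := fun i => by
    refine Polynomial.natDegree_eq_of_degree_eq_some ?_
    rw [Polynomial.degree_sub_eq_left_of_degree_lt (by rw [Polynomial.degree_X_pow]; exact hdeg i),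
      Polynomial.degree_X_pow]
  let B : ∀ i, Module.Basis (Fin p) R (AdjoinRoot (F i)) := fun i =>
    (AdjoinRoot.powerBasis' (hF i)).basis.reindex (finCongr (hnat i))
  have hB : ∀ i m, B i m = AdjoinRoot.root (F i) ^ (m : ℕ) := fun i m => by
    simp only [B, Module.Basis.reindex_apply, PowerBasis.basis_eq_pow]
    rfl
  let v : ι → (PiTensorProduct R fun i => AdjoinRoot (F i)) := fun i =>
    PiTensorProduct.singleAlgHom i (AdjoinRoot.root (F i))
  have hv : ∀ i, v i ^ p = algebraMap R _ (b i) * v i + algebraMap R _ (c i) := fun i => by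
    have h := congrArg (PiTensorProduct.singleAlgHom (R := R) (A := fun j => AdjoinRoot (F j)) i)
      (AdjoinRoot.eval₂_root (F i))
    rw [map_zero] at h
    simp only [F, Polynomial.eval₂_sub, Polynomial.eval₂_add, Polynomial.eval₂_mul, Polynomial.eval₂_X_pow,
      Polynomial.eval₂_C, Polynomial.eval₂_X, ← AdjoinRoot.algebraMap_eq, map_sub, map_add, map_mul, map_pow,
      AlgHom.commutes] at h
    exact sub_eq_zero.1 h
  refine LinearIndependent.of_comp (lift p b c v hv).toLinearMap ?_
  have : ((lift p b c v hv).toLinearMap ∘ fun e : ι → Fin p => mono (gen p b c) e) =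
      fun e => Basis.piTensorProduct B e := by
    funext e
    simp only [Function.comp_apply, AlgHom.toLinearMap_apply, mono, map_prod, map_pow, lift_gen, v]
    rw [Basis.piTensorProduct_apply]
    simp only [hB]
    have hpow : ∀ x, PiTensorProduct.singleAlgHom (R := R) (A := fun i => AdjoinRoot (F i)) x
        (AdjoinRoot.root (F x)) ^ (e x : ℕ) = PiTensorProduct.tprodMonoidHom R (Pi.mulSingle x
          (AdjoinRoot.root (F x) ^ (e x : ℕ))) := fun x => by
      rw [← map_pow]; rfl
    simp only [hpow]
    exact ((map_prod (PiTensorProduct.tprodMonoidHom R (A := fun i => AdjoinRoot (F i))) _ _).symm.trans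
      (congrArg _ (Finset.univ_prod_mulSingle _)))
  rw [this]
  exact (Basis.piTensorProduct B).linearIndependent

/-- The monomial basis. -/
def basis [Fact (2 ≤ p)] : Module.Basis (ι → Fin p) R (Alg p b c) :=
  Module.Basis.mk (linearIndependent_mono p b c) (span_mono_eq_top p b c).ge

theorem basis_apply [Fact (2 ≤ p)] (e : ι → Fin p) : basis p b c e = mono (gen p b c) e := by
  simp [basis]

theorem free [Fact (2 ≤ p)] : Module.Free R (Alg p b c) := .of_basis (basis p b c)

theorem finite [Fact (2 ≤ p)] : Module.Finite R (Alg p b c) := .of_basis (basis p b c)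

theorem finrank [Nontrivial R] [Fact (2 ≤ p)] :
    Module.finrank R (Alg p b c) = p ^ Fintype.card ι := by
  classical
  rw [Module.finrank_eq_card_basis (basis p b c), Fintype.card_fun, Fintype.card_fin]

theorem algebraMap_injective [Fact (2 ≤ p)] : Function.Injective (algebraMap R (Alg p b c)) := by
  classical
  haveI := free p b c
  intro x y h
  have h1 : (basis p b c).repr (algebraMap R _ x) = (basis p b c).repr (algebraMap R _ y) := by rw [h]
  let z : ι → Fin p := fun _ => ⟨0, by have := (Fact.out : 2 ≤ p); omega⟩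
  have hz : ∀ r : R, algebraMap R (Alg p b c) r = r • basis p b c z := fun r => by
    rw [basis_apply, Algebra.algebraMap_eq_smul_one]; simp [mono, z]
  simpa [hz] using DFunLike.congr_fun h1 z

end Groth.Agent.ASFam
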