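import Groth.Agent.ASFam.Local
import Groth.Agent.ASFam.Aut

/-!
# The Artin–Schreier family over `k[[x_1, …, x_n]]`
-/

set_option autoImplicit false

universe u

open IsLocalRing

noncomputable section

namespace Groth.Agent.ASFam

variable {k : Type u} [Field k] {n : ℕ}

theorem mem_maximalIdeal_of_constantCoeff {f : MvPowerSeries (Fin n) k}
    (h : MvPowerSeries.constantCoeff f = 0) : f ∈ maximalIdeal (MvPowerSeries (Fin n) k) := by
  rw [IsLocalRing.mem_maximalIdeal, mem_nonunits_iff, MvPowerSeries.isUnit_iff_constantCoeff, h]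
  exact not_isUnit_zero

theorem pow_mem_maximalIdeal (p : ℕ) [Fact p.Prime] {f : MvPowerSeries (Fin n) k}
    (h : MvPowerSeries.constantCoeff f = 0) : f ^ (p - 1) ∈ maximalIdeal (MvPowerSeries (Fin n) k) :=
  Ideal.pow_mem_of_mem _ (mem_maximalIdeal_of_constantCoeff h) _ (by
    have := (Fact.out : p.Prime).two_le; omega)

theorem span_X : Ideal.span (Set.range (MvPowerSeries.X : Fin n → MvPowerSeries (Fin n) k)) =
    maximalIdeal (MvPowerSeries (Fin n) k) := ArtPow.span_X_eq_maximalIdeal

instance charP_ps (p : ℕ) [CharP k p] : CharP (MvPowerSeries (Fin n) k) p :=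
  charP_of_injective_ringHom (f := (MvPowerSeries.C : k →+* MvPowerSeries (Fin n) k))
    (fun x y h => by simpa using congrArg MvPowerSeries.constantCoeff h) p

variable (p : ℕ) [Fact p.Prime] (a : Fin n → MvPowerSeries (Fin n) k)
  (ham : ∀ i, MvPowerSeries.constantCoeff (a i) = 0)

include ham in
theorem isRegularLocalRing_family :
    IsRegularLocalRing (Alg p (fun i => a i ^ (p - 1)) (MvPowerSeries.X (σ := Fin n) (R := k))) :=
  isRegularLocalRing p _ _ (fun i => pow_mem_maximalIdeal p (ham i)) span_X
    (ringKrullDim_mvPowerSeries k n)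

include ham in
theorem isDomain_family :
    IsDomain (Alg p (fun i => a i ^ (p - 1)) (MvPowerSeries.X (σ := Fin n) (R := k))) :=
  isDomain p _ _ (fun i => pow_mem_maximalIdeal p (ham i)) span_X (ringKrullDim_mvPowerSeries k n)

end Groth.Agent.ASFam
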