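import Groth.Agent.ASFam.Basic

/-!
# Shifts `u ↦ u + v` in characteristic `p`

A polynomial of degree `< p` with invariant coefficients whose value at `u` is invariant is constant.
-/

set_option autoImplicit false

universe u v w

noncomputable section

namespace Groth.Agent.ASFam

open Polynomial in
theorem eq_C_of_shift {A : Type w} [CommRing A] [IsDomain A] (p : ℕ) [Fact p.Prime] [CharP A p]
    (σ : A →+* A) {u v : A} (hv : v ≠ 0) (hu : σ u = u + v) (hσv : σ v = v) (Q : A[X])
    (hQ : ∀ m, σ (Q.coeff m) = Q.coeff m) (hdeg : Q.natDegree < p) (hfix : σ (Q.eval u) = Q.eval u) :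
    Q = C (Q.coeff 0) := by
  have hQσ : Q.map σ = Q := Polynomial.ext fun m => by rw [coeff_map, hQ]
  have hev : ∀ x : A, σ (Q.eval x) = Q.eval (σ x) := fun x => by
    conv_rhs => rw [← hQσ, eval_map, eval₂_at_apply]
  have hj : ∀ j : ℕ, Q.eval (u + j * v) = Q.eval u := by
    intro j
    induction j with
    | zero => simp
    | succ j ih =>
      have h := congrArg σ ih
      rw [hev, hfix, map_add, hu, map_mul, map_natCast, hσv] at h
      convert h using 2
      push_cast
      ring
  set P := Q - C (Q.eval u) with hP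
  have hP0 : P = 0 := by
    refine eq_zero_of_natDegree_lt_card_of_eval_eq_zero P (f := fun j : Fin p => u + (j : ℕ) * v)
      ?_ (fun j => by simp [P, hj]) ?_
    · intro i j hij
      have h1 : ((i : ℕ) : A) = ((j : ℕ) : A) := mul_right_cancel₀ hv (add_left_cancel hij)
      exact Fin.ext (CharP.natCast_injOn_Iio A p i.2 j.2 h1)
    · rw [Fintype.card_fin]
      exact lt_of_le_of_lt ((natDegree_sub_le _ _).trans (by simp)) hdeg
  rw [hP, sub_eq_zero] at hP0
  conv_rhs => rw [hP0]
  rw [coeff_C_zero]
  exact hP0

variable {R : Type u} [CommRing R] {A : Type w} [CommRing A] [IsDomain A] [Algebra R A]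
  {p : ℕ} [Fact p.Prime] [CharP A p] {κ : Type v} [Fintype κ] [DecidableEq κ]

/-- The coefficients obtained by fixing the `j`-th exponent to be `m`. -/
def slice (r : (κ → Fin p) → R) (j : κ) (m : Fin p) : (κ → Fin p) → R :=
  haveI : NeZero p := ⟨(Fact.out : p.Prime).ne_zero⟩
  fun e => if e j = 0 then r (Function.update e j m) else 0

theorem sum_eq_sum_slice (w : κ → A) (r : (κ → Fin p) → R) (j : κ) :
    ∑ e, r e • mono w e = ∑ m : Fin p, (∑ e, slice r j m e • mono w e) * w j ^ (m : ℕ) := by
  haveI : NeZero p := ⟨(Fact.out : p.Prime).ne_zero⟩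
  have hupd : ∀ (e : κ → Fin p) (m : Fin p), e j = 0 → mono w (Function.update e j m) =
      mono w e * w j ^ (m : ℕ) := by
    intro e m he
    rw [mono, mono, ← Finset.mul_prod_erase _ _ (Finset.mem_univ j),
      ← Finset.mul_prod_erase (s := Finset.univ) (f := fun i => w i ^ (e i : ℕ)) (Finset.mem_univ j),
      Function.update_self, he, Fin.val_zero, pow_zero, one_mul, mul_comm]
    exact congrArg (· * _) (Finset.prod_congr rfl fun i hi => by
      rw [Function.update_of_ne (Finset.ne_of_mem_erase hi)])
  rw [← Finset.sum_fiberwise Finset.univ (fun e => e j) (fun e => r e • mono w e)]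
  refine Finset.sum_congr rfl fun m _ => ?_
  rw [Finset.sum_mul]
  have : ∀ e, slice r j m e • mono w e * w j ^ (m : ℕ) =
      if e j = 0 then r (Function.update e j m) • mono w (Function.update e j m) else 0 := by
    intro e
    by_cases he : e j = 0
    · rw [slice, if_pos he, if_pos he, hupd e m he, smul_mul_assoc]
    · rw [slice, if_neg he, if_neg he, zero_smul, zero_mul]
  simp only [this]
  rw [← Finset.sum_filter]
  refine Finset.sum_nbij' (fun e => Function.update e j 0) (fun e => Function.update e j m)
    (fun e he => by simp) (fun e he => by simp) (fun e he => ?_) (fun e he => ?_) (fun e he => ?_)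
  · simp only [Finset.mem_filter, Finset.mem_univ, true_and, Finset.mem_coe] at he
    simp [← he]
  · simp only [Finset.mem_filter, Finset.mem_univ, true_and, Finset.mem_coe] at he
    simp [← he]
  · simp only [Finset.mem_filter, Finset.mem_univ, true_and, Finset.mem_coe] at he
    simp [← he]

theorem apply_slice_sum (w : κ → A) (r : (κ → Fin p) → R) (j : κ) (τ : A →ₐ[R] A)
    (hne : ∀ i, i ≠ j → τ (w i) = w i) (m : Fin p) :
    τ (∑ e, slice r j m e • mono w e) = ∑ e, slice r j m e • mono w e := by
  haveI : NeZero p := ⟨(Fact.out : p.Prime).ne_zero⟩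
  rw [map_sum]
  refine Finset.sum_congr rfl fun e _ => ?_
  by_cases he : e j = 0
  · rw [map_smul, mono, map_prod]
    refine congrArg _ (Finset.prod_congr rfl fun i _ => ?_)
    by_cases hij : i = j
    · subst hij; simp [he]
    · rw [map_pow, hne i hij]
  · simp [slice, he]

theorem slice_sum_eq_zero_of_fixed (w : κ → A) (r : (κ → Fin p) → R) (j : κ) (τ : A →ₐ[R] A) {v : A}
    (hv : v ≠ 0) (hu : τ (w j) = w j + v) (hτv : τ v = v) (hne : ∀ i, i ≠ j → τ (w i) = w i)
    (hfix : τ (∑ e, r e • mono w e) = ∑ e, r e • mono w e) :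
    (∀ m : Fin p, (m : ℕ) ≠ 0 → ∑ e, slice r j m e • mono w e = 0) ∧
      ∑ e, r e • mono w e =
        ∑ e, slice r j ⟨0, (Fact.out : p.Prime).pos⟩ e • mono w e := by
  haveI : NeZero p := ⟨(Fact.out : p.Prime).ne_zero⟩
  let Q : Polynomial A := ∑ m : Fin p, Polynomial.monomial (m : ℕ) (∑ e, slice r j m e • mono w e)
  have hcoeff : ∀ l : ℕ, Q.coeff l = if h : l < p then ∑ e, slice r j ⟨l, h⟩ e • mono w e else 0 := by
    intro l
    simp only [Q, Polynomial.finsetSum_coeff, Polynomial.coeff_monomial]
    split_ifs with h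
    · rw [Finset.sum_eq_single ⟨l, h⟩ (fun m _ hm => if_neg fun h' => hm (Fin.ext h'))
        (fun h' => absurd (Finset.mem_univ _) h'), if_pos rfl]
    · exact Finset.sum_eq_zero fun m _ => if_neg fun h' => h (by rw [← h']; exact m.2)
  have heval : Q.eval (w j) = ∑ e, r e • mono w e := by
    simp only [Q, Polynomial.eval_finsetSum, Polynomial.eval_monomial]
    exact (sum_eq_sum_slice w r j).symm
  have hdeg : Q.natDegree < p := by
    refine lt_of_le_of_lt (Polynomial.natDegree_le_iff_coeff_eq_zero.2 fun l hl => ?_)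
      (Nat.sub_one_lt (Fact.out : p.Prime).ne_zero)
    rw [hcoeff, dif_neg (by omega)]
  have hQC := eq_C_of_shift p τ.toRingHom hv hu hτv Q
    (fun l => by rw [hcoeff]; split_ifs with h
                 · exact apply_slice_sum w r j τ hne _
                 · exact map_zero _)
    hdeg (by rw [heval]; exact hfix)
  refine ⟨fun m hm => ?_, ?_⟩
  · have h := congrArg (fun P : Polynomial A => P.coeff (m : ℕ)) hQC
    simp only [Polynomial.coeff_C, if_neg hm] at h
    rwa [hcoeff, dif_pos m.2] at h
  · have h := congrArg (fun P : Polynomial A => P.eval (w j)) hQC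
    simp only [Polynomial.eval_C, heval] at h
    rw [h, hcoeff, dif_pos]

variable (hinj : Function.Injective (algebraMap R A)) (w : κ → A) (τ : κ → (A →ₐ[R] A)) (v : κ → A)
  (hv : ∀ j, v j ≠ 0) (hu : ∀ j, τ j (w j) = w j + v j) (hτv : ∀ j, τ j (v j) = v j)
  (hne : ∀ j i, i ≠ j → τ j (w i) = w i)

include hinj hv hu hτv hne in
theorem eq_zero_of_sum_eq_zero (r : (κ → Fin p) → R) (h : ∑ e, r e • mono w e = 0) : r = 0 := by
  haveI : NeZero p := ⟨(Fact.out : p.Prime).ne_zero⟩
  suffices H : ∀ s : Finset κ, ∀ r : (κ → Fin p) → R, (∀ e, ∀ i ∉ s, e i ≠ 0 → r e = 0) →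
      ∑ e, r e • mono w e = 0 → r = 0 from H Finset.univ r (fun e i hi => absurd (Finset.mem_univ i) hi) h
  intro s
  induction s using Finset.induction with
  | empty =>
    intro r hr h
    funext e
    by_cases he : e = 0
    · subst he
      rw [Finset.sum_eq_single (0 : κ → Fin p)] at h
      · refine hinj ?_
        simpa [mono, Algebra.smul_def] using h
      · intro e _ he
        obtain ⟨i, hi⟩ := Function.ne_iff.1 he
        rw [hr e i (Finset.notMem_empty i) hi, zero_smul]
      · exact fun h' => absurd (Finset.mem_univ _) h'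
    · obtain ⟨i, hi⟩ := Function.ne_iff.1 he
      exact hr e i (Finset.notMem_empty i) hi
  | insert j s hj ih =>
    intro r hr h
    have hs := slice_sum_eq_zero_of_fixed w r j (τ j) (hv j) (hu j) (hτv j) (hne j)
      (by rw [h, map_zero])
    have hall : ∀ m, ∑ e, slice r j m e • mono w e = 0 := fun m => by
      by_cases hm : (m : ℕ) = 0
      · have := hs.2
        rw [h] at this
        rw [this]
        exact congrArg (fun m => ∑ e, slice r j m e • mono w e) (Fin.ext hm)
      · exact hs.1 m hm
    funext e
    have hz := congrFun (ih (slice r j (e j)) (fun e' i hi hei => ?_) (hall (e j))) (Function.update e j 0)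
    · simpa [slice] using hz
    · simp only [slice]
      split_ifs with h0
      · by_cases hij : i = j
        · subst hij; exact absurd h0 hei
        · exact hr _ i (by simp [hij, hi]) (by rwa [Function.update_of_ne hij])
      · rfl

include hinj hv hu hτv hne in
theorem linearIndependent_of_shifts : LinearIndependent R fun e : κ → Fin p => mono w e :=
  Fintype.linearIndependent_iff.2 fun r h e => congrFun (eq_zero_of_sum_eq_zero hinj w τ v hv hu hτv hne r h) e

include hinj hv hu hτv hne in
theorem eq_zero_of_fixed (r : (κ → Fin p) → R) (j : κ)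
    (hfix : τ j (∑ e, r e • mono w e) = ∑ e, r e • mono w e) {e : κ → Fin p} (he : (e j : ℕ) ≠ 0) :
    r e = 0 := by
  haveI : NeZero p := ⟨(Fact.out : p.Prime).ne_zero⟩
  have hs := (slice_sum_eq_zero_of_fixed w r j (τ j) (hv j) (hu j) (hτv j) (hne j) hfix).1 (e j) he
  have hz := congrFun (eq_zero_of_sum_eq_zero hinj w τ v hv hu hτv hne _ hs) (Function.update e j 0)
  simpa [slice] using hz

end Groth.Agent.ASFam
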