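import Groth.Agent.ASFam.Family

/-!
# The fixed point ideal of a shift
-/

set_option autoImplicit false

universe u

open IsLocalRing

noncomputable section

namespace Groth.Agent.ASFam

variable {R : Type u} [CommRing R] {ι : Type} [Fintype ι] (p : ℕ) [Fact (2 ≤ p)] (b c a : ι → R)

theorem span_sub_eq (σ : Alg p b c ≃ₐ[R] Alg p b c)
    (hσ : ∀ i, σ (gen p b c i) = gen p b c i + algebraMap R _ (a i)) :
    Ideal.span (Set.range fun t : Alg p b c => σ t - t) =
      (Ideal.span (Set.range a)).map (algebraMap R (Alg p b c)) := by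
  set J : Ideal (Alg p b c) := (Ideal.span (Set.range a)).map (algebraMap R (Alg p b c)) with hJ
  refine le_antisymm ?_ ?_
  · rw [Ideal.span_le]
    rintro _ ⟨t, rfl⟩
    have h : (Ideal.Quotient.mkₐ R J).comp (σ : Alg p b c →ₐ[R] Alg p b c) = Ideal.Quotient.mkₐ R J := by
      refine algHom_ext (S := Alg p b c ⧸ J) p b c fun i => ?_
      show Ideal.Quotient.mk J (σ (gen p b c i)) = Ideal.Quotient.mk J (gen p b c i)
      rw [hσ, Ideal.Quotient.eq, add_sub_cancel_left]
      exact Ideal.mem_map_of_mem _ (Ideal.subset_span ⟨i, rfl⟩)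
    exact Ideal.Quotient.eq.1 (DFunLike.congr_fun h t)
  · rw [show J = Ideal.span _ from Ideal.map_span _ _, Ideal.span_le]
    rintro _ ⟨_, ⟨i, rfl⟩, rfl⟩
    exact Ideal.subset_span ⟨gen p b c i, by show σ _ - _ = _; rw [hσ, add_sub_cancel_left]⟩

variable [IsLocalRing R] (hb : ∀ i, b i ∈ maximalIdeal R)
  (hc : Ideal.span (Set.range c) = maximalIdeal R)

include hb hc in
theorem map_maximalIdeal_le_pow [IsNoetherianRing R] :
    (maximalIdeal R).map (algebraMap R (Alg p b c)) ≤ augIdeal p b c ^ p := by
  haveI := isLocalRing p b c hb hc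
  haveI := finite p b c
  haveI : IsNoetherianRing (Alg p b c) := IsNoetherianRing.of_finite R _
  refine Submodule.le_of_le_smul_of_le_jacobson_bot (I := augIdeal p b c)
    (IsNoetherian.noetherian _) (le_of_eq_of_le (IsLocalRing.eq_maximalIdeal (isMaximal_augIdeal p b c hc))
      (jacobson_eq_maximalIdeal ⊥ bot_ne_top).ge) ?_
  rw [smul_eq_mul, ← hc, Ideal.map_span, Ideal.span_le]
  rintro _ ⟨_, ⟨i, rfl⟩, rfl⟩
  have h : algebraMap R (Alg p b c) (c i) =
      gen p b c i ^ p - gen p b c i * algebraMap R (Alg p b c) (b i) := by rw [gen_pow]; ring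
  rw [h, SetLike.mem_coe, ← Ideal.map_span, hc]
  exact sub_mem (Submodule.mem_sup_left (Ideal.pow_mem_pow (gen_mem p b c i) p))
    (Submodule.mem_sup_right (Ideal.mul_mem_mul (gen_mem p b c i) (Ideal.mem_map_of_mem _ (hb i))))

include hb hc in
theorem length_quotient_map (J : Ideal R) :
    Module.length (Alg p b c) (Alg p b c ⧸ J.map (algebraMap R (Alg p b c))) =
      (p ^ Fintype.card ι : ℕ∞) * Module.length R (R ⧸ J) := by
  classical
  haveI := isLocalRing p b c hb hc
  set J' := J.map (algebraMap R (Alg p b c))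
  haveI : IsLocalHom (algebraMap R (Alg p b c)) := by
    refine ⟨fun r hr => by_contra fun h => ?_⟩
    exact (isMaximal_augIdeal p b c hc).ne_top (Ideal.eq_top_of_isUnit_mem _
      (map_maximalIdeal_le p b c hc (Ideal.mem_map_of_mem _ ((IsLocalRing.mem_maximalIdeal r).2 h))) hr)
  have hres : Module.length (ResidueField R) (ResidueField (Alg p b c)) = 1 := by
    have hs : Function.Surjective (algebraMap (ResidueField R) (ResidueField (Alg p b c))) := by
      intro y
      obtain ⟨t, rfl⟩ := residue_surjective y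
      suffices ∃ r, t - algebraMap R (Alg p b c) r ∈ maximalIdeal (Alg p b c) by
        obtain ⟨r, hr⟩ := this
        exact ⟨residue R r, ((Ideal.Quotient.eq).2 hr).symm⟩
      rw [← IsLocalRing.eq_maximalIdeal (isMaximal_augIdeal p b c hc)]
      obtain ⟨q, rfl⟩ := Ideal.Quotient.mk_surjective t
      induction q using MvPolynomial.induction_on with
      | C r => exact ⟨r, by rw [show Ideal.Quotient.mk (ideal p b c) (MvPolynomial.C r) =
          algebraMap R (Alg p b c) r from rfl, sub_self]; exact zero_mem _⟩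
      | add x y hx hy =>
        obtain ⟨r, hr⟩ := hx
        obtain ⟨s, hs⟩ := hy
        exact ⟨r + s, by rw [map_add, map_add, add_sub_add_comm]; exact add_mem hr hs⟩
      | mul_X q i _ =>
        refine ⟨0, ?_⟩
        rw [map_zero, sub_zero, map_mul]
        exact Ideal.mul_mem_left _ _ (gen_mem p b c i)
    rw [Module.length_eq_of_surjective (M := ResidueField (Alg p b c)) hs, Module.length_eq_one]
  let B := basis p b c
  let Φ : Alg p b c →ₗ[R] ((ι → Fin p) → R ⧸ J) :=
    LinearMap.pi fun e => (Submodule.mkQ J).comp (B.coord e)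
  have hsurj : Function.Surjective Φ := fun f => by
    choose g hg using fun e => Submodule.mkQ_surjective J (f e)
    refine ⟨B.equivFun.symm g, funext fun e => ?_⟩
    show Submodule.mkQ J (B.equivFun (B.equivFun.symm g) e) = f e
    rw [LinearEquiv.apply_symm_apply, hg]
  have hker : LinearMap.ker Φ = J'.restrictScalars R := by
    refine le_antisymm (fun t ht => ?_) ?_
    · rw [LinearMap.mem_ker] at ht
      rw [← B.sum_repr t]
      refine Submodule.sum_mem _ fun e _ => ?_
      rw [Submodule.restrictScalars_mem]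
      rw [← algebraMap_smul (Alg p b c), smul_eq_mul]
      refine Ideal.mul_mem_right _ _ (Ideal.mem_map_of_mem _ ?_)
      exact (Submodule.Quotient.mk_eq_zero _).1 (congrFun ht e)
    · rw [← Ideal.smul_top_eq_map]
      refine Submodule.smul_le.2 fun r hr t _ => ?_
      rw [LinearMap.mem_ker]
      funext e
      simp only [Φ, LinearMap.pi_apply, LinearMap.comp_apply, map_smul, Submodule.mkQ_apply, Pi.zero_apply]
      rw [← Submodule.Quotient.mk_smul, Submodule.Quotient.mk_eq_zero]
      exact Ideal.mul_mem_right _ _ hr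
  have e := LinearEquiv.length_eq (((Submodule.quotEquivOfEq _ _ hker).symm.trans
    (Φ.quotKerEquivOfSurjective hsurj)))
  have h1 := IsLocalRing.length_restrictScalars R (Alg p b c) (Alg p b c ⧸ J')
  rw [hres, mul_one] at h1
  refine h1.symm.trans (Eq.trans ?_ (e.trans ?_))
  · exact (Submodule.Quotient.restrictScalarsEquiv R J').length_eq.symm
  · rw [Module.length_pi_of_fintype]
    simp

end Groth.Agent.ASFam
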