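import Groth.Agent.ASFam.Aut

/-!
# `R[u_i]/(u_i ^ p - b_i u_i - c_i)` is a Frobenius `R`-algebra via the top coefficient
-/

set_option autoImplicit false

universe u v

noncomputable section

namespace Groth.Agent.ASFam

variable {R : Type u} [CommRing R] {ι : Type v} [Fintype ι] (p : ℕ) [Fact (2 ≤ p)] (b c : ι → R)

/-- The top exponent. -/
def top : Fin p := ⟨p - 1, by have := (Fact.out : 2 ≤ p); omega⟩

/-- The coefficient of the top monomial. -/
def topForm : Alg p b c →ₗ[R] R := (basis p b c).coord fun _ => top p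

theorem topForm_prod (f : ι → Fin p → R) :
    topForm p b c (∏ i, ∑ m : Fin p, f i m • gen p b c i ^ (m : ℕ)) = ∏ i, f i (top p) := by
  classical
  rw [Fintype.prod_sum]
  have h : ∀ e : ι → Fin p, ∏ i, f i (e i) • gen p b c i ^ (e i : ℕ) = (∏ i, f i (e i)) • basis p b c e := by
    intro e
    rw [basis_apply, ← algebraMap_smul (Alg p b c) (∏ i, f i (e i)), smul_eq_mul, map_prod,
      ← Finset.prod_mul_distrib]
    exact Finset.prod_congr rfl fun i _ => by rw [← algebraMap_smul (Alg p b c) (f i (e i)), smul_eq_mul]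
  simp only [h, map_sum, map_smul, topForm, Module.Basis.coord_apply, Module.Basis.repr_self]
  rw [Finset.sum_eq_single (fun _ => top p)]
  · simp
  · intro e _ he
    simp [Finsupp.single_eq_of_ne' he]
  · exact fun h => absurd (Finset.mem_univ _) h

/-- The one-variable dual elements. -/
def dual1 (i : ι) (r : Fin p) : Alg p b c :=
  if (r : ℕ) = 0 then gen p b c i ^ (p - 1) - algebraMap R _ (b i) else gen p b c i ^ (p - 1 - (r : ℕ))

theorem exists_expansion (i : ι) (s r : Fin p) :
    ∃ f : Fin p → R, gen p b c i ^ (s : ℕ) * dual1 p b c i r = ∑ m : Fin p, f m • gen p b c i ^ (m : ℕ) ∧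
      f (top p) = if s = r then 1 else 0 := by
  classical
  have hp : 2 ≤ p := Fact.out
  have hs := s.2
  have hr := r.2
  have single : ∀ (q : Fin p) (x : R),
      ∑ m : Fin p, (Pi.single q x : Fin p → R) m • gen p b c i ^ (m : ℕ) = x • gen p b c i ^ (q : ℕ) := by
    intro q x
    rw [Finset.sum_eq_single q (fun m _ hm => by rw [Pi.single_eq_of_ne hm, zero_smul])
      (fun h => absurd (Finset.mem_univ _) h), Pi.single_eq_same]
  rw [dual1]
  split_ifs with h0 hsr hsr
  · refine ⟨Pi.single (top p) 1 + Pi.single ⟨0, by omega⟩ (-b i), ?_, ?_⟩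
    · simp only [Pi.add_apply, add_smul, Finset.sum_add_distrib, single]
      rw [show (s : ℕ) = 0 from hsr ▸ h0, pow_zero, one_mul, one_smul, neg_smul,
        ← Algebra.algebraMap_eq_smul_one, ← sub_eq_add_neg]
      rfl
    · rw [Pi.add_apply, Pi.single_eq_same, Pi.single_eq_of_ne, add_zero]
      simp only [top, ne_eq, Fin.ext_iff]; omega
  · have hs0 : (s : ℕ) ≠ 0 := fun h => hsr (Fin.ext (by omega))
    refine ⟨Pi.single ⟨(s : ℕ) - 1, by omega⟩ (c i), ?_, ?_⟩
    · rw [single]
      have e1 : gen p b c i ^ (s : ℕ) * gen p b c i ^ (p - 1) =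
          gen p b c i ^ ((s : ℕ) - 1) * gen p b c i ^ p := by
        rw [← pow_add, ← pow_add]; congr 1; omega
      have e2 : gen p b c i ^ (s : ℕ) = gen p b c i ^ ((s : ℕ) - 1) * gen p b c i := by
        rw [← pow_succ]; congr 1; omega
      rw [mul_sub, e1, gen_pow, e2, ← algebraMap_smul (Alg p b c), smul_eq_mul]
      ring
    · rw [Pi.single_eq_of_ne]
      simp only [top, ne_eq, Fin.ext_iff]; omega
  · refine ⟨Pi.single (top p) 1, ?_, Pi.single_eq_same _ _⟩
    rw [single, one_smul, ← pow_add, hsr]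
    congr 1
    simp only [top]; omega
  · rw [← pow_add]
    have hne : (s : ℕ) ≠ r := fun h => hsr (Fin.ext h)
    by_cases hlt : (s : ℕ) + (p - 1 - r) < p
    · refine ⟨Pi.single ⟨_, hlt⟩ 1, by rw [single, one_smul], ?_⟩
      rw [Pi.single_eq_of_ne]
      simp only [top, ne_eq, Fin.ext_iff]; omega
    · obtain ⟨q, hq⟩ : ∃ q, (s : ℕ) + (p - 1 - r) = q + p := ⟨(s : ℕ) + (p - 1 - r) - p, by omega⟩
      refine ⟨Pi.single ⟨q + 1, by omega⟩ (b i) + Pi.single ⟨q, by omega⟩ (c i), ?_, ?_⟩
      · simp only [Pi.add_apply, add_smul, Finset.sum_add_distrib, single]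
        rw [hq, pow_add, gen_pow, ← algebraMap_smul (Alg p b c), ← algebraMap_smul (Alg p b c) (c i),
          smul_eq_mul, smul_eq_mul]
        ring
      · rw [Pi.add_apply, Pi.single_eq_of_ne, Pi.single_eq_of_ne, add_zero]
        · simp only [top, ne_eq, Fin.ext_iff]; omega
        · simp only [top, ne_eq, Fin.ext_iff]; omega

theorem topForm_mono_mul_dual [DecidableEq ι] (s r : ι → Fin p) :
    topForm p b c (mono (gen p b c) s * ∏ i, dual1 p b c i (r i)) = if s = r then 1 else 0 := by
  classical
  choose f hf hf' using fun i => exists_expansion p b c i (s i) (r i)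
  rw [mono, ← Finset.prod_mul_distrib, Finset.prod_congr rfl (fun i _ => hf i), topForm_prod]
  simp only [hf', Fintype.prod_ite_zero, Finset.prod_const_one, funext_iff]

theorem exists_topForm_eq [DecidableEq ι] (ψ : Alg p b c →ₗ[R] R) :
    ∃ d : Alg p b c, ∀ t, ψ t = topForm p b c (t * d) := by
  classical
  refine ⟨∑ r : ι → Fin p, ψ (mono (gen p b c) r) • ∏ i, dual1 p b c i (r i), fun t => ?_⟩
  have : ψ = (topForm p b c).comp
      (LinearMap.mulRight R (∑ r : ι → Fin p, ψ (mono (gen p b c) r) • ∏ i, dual1 p b c i (r i))) := by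
    refine (basis p b c).ext fun s => ?_
    rw [basis_apply, LinearMap.comp_apply, LinearMap.mulRight_apply, Finset.mul_sum, map_sum]
    simp only [mul_smul_comm, map_smul, topForm_mono_mul_dual, smul_eq_mul, mul_ite, mul_one, mul_zero]
    rw [Finset.sum_ite_eq, if_pos (Finset.mem_univ _)]
  exact DFunLike.congr_fun this t

theorem eq_zero_of_topForm [DecidableEq ι] (d : Alg p b c) (h : ∀ t, topForm p b c (t * d) = 0) : d = 0 := by
  classical
  refine (basis p b c).ext_elem fun r => ?_
  rw [map_zero, Finsupp.zero_apply]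
  have h1 := h (∏ i, dual1 p b c i (r i))
  rw [mul_comm, ← (basis p b c).sum_repr d, Finset.sum_mul, map_sum] at h1
  simp only [smul_mul_assoc, map_smul, basis_apply, topForm_mono_mul_dual, smul_eq_mul, mul_ite, mul_one,
    mul_zero] at h1
  rwa [Finset.sum_ite_eq', if_pos (Finset.mem_univ _)] at h1

theorem topForm_shift (a : ι → R) (σ : Alg p b c →ₐ[R] Alg p b c)
    (hσ : ∀ i, σ (gen p b c i) = gen p b c i + algebraMap R _ (a i)) (t : Alg p b c) :
    topForm p b c (σ t) = topForm p b c t := by
  classical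
  suffices h : (topForm p b c).comp σ.toLinearMap = topForm p b c from DFunLike.congr_fun h t
  refine (basis p b c).ext fun e => ?_
  have hexp : ∀ i, (gen p b c i + algebraMap R _ (a i)) ^ (e i : ℕ) =
      ∑ m : Fin p, ((Nat.choose (e i) m : R) * a i ^ ((e i : ℕ) - m)) • gen p b c i ^ (m : ℕ) := by
    intro i
    rw [add_pow, Fin.sum_univ_eq_sum_range
      (fun m => ((Nat.choose (e i) m : R) * a i ^ ((e i : ℕ) - m)) • gen p b c i ^ m) p]
    refine (Finset.sum_congr rfl fun m _ => ?_).trans
      (Finset.sum_subset (Finset.range_subset_range.2 (e i).2) fun m _ hm => ?_)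
    · rw [← algebraMap_smul (Alg p b c), smul_eq_mul, map_mul, map_natCast, map_pow]
      ring
    · rw [Nat.choose_eq_zero_of_lt (by simp only [Finset.mem_range] at hm; omega), Nat.cast_zero, zero_mul,
        zero_smul]
  rw [LinearMap.comp_apply, basis_apply, AlgHom.toLinearMap_apply, map_prod]
  simp only [map_pow, hσ, hexp]
  rw [topForm_prod]
  conv_rhs => rw [← basis_apply, topForm, Module.Basis.coord_apply, Module.Basis.repr_self, Finsupp.single_apply]
  have hi : ∀ i, (Nat.choose (e i) (top p : ℕ) : R) * a i ^ ((e i : ℕ) - (top p : ℕ)) =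
      if e i = top p then 1 else 0 := by
    intro i
    split_ifs with h
    · rw [h, Nat.choose_self, Nat.sub_self, Nat.cast_one, pow_zero, mul_one]
    · rw [Nat.choose_eq_zero_of_lt, Nat.cast_zero, zero_mul]
      have := (e i).2
      have h' : (e i : ℕ) ≠ p - 1 := fun h'' => h (Fin.ext h'')
      simp only [top]; omega
  simp only [hi, Fintype.prod_ite_zero, Finset.prod_const_one, funext_iff]

end Groth.Agent.ASFam
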