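import Groth.Agent.ASFam.Fix
import Groth.Agent.RegLoc.Order
import Groth.Agent.RegLoc.Normal
import Groth.Agent.AdicLim.Noetherian
import Groth.Agent.ArtObs.Models
import Groth.Agent.SegreDim.Noether

/-!
# Local structure of `R[u_i] / (u_i ^ p - b_i u_i - c_i)` when `c` generates the maximal ideal
-/

set_option autoImplicit false

universe u

open IsLocalRing

noncomputable section

namespace Groth.Agent.ASFam

variable {R : Type u} [CommRing R] [IsLocalRing R] {ι : Type} [Fintype ι] (p : ℕ) [Fact (2 ≤ p)]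
  (b c : ι → R) (hb : ∀ i, b i ∈ maximalIdeal R) (hc : Ideal.span (Set.range c) = maximalIdeal R)

/-- The ideal generated by the classes of the `u_i`. -/
abbrev augIdeal : Ideal (Alg p b c) :=
  Ideal.map (Ideal.Quotient.mk (ideal p b c))
    (Ideal.span (Set.range (MvPolynomial.X : ι → MvPolynomial ι R)))

theorem augIdeal_eq : augIdeal p b c = Ideal.span (Set.range (gen p b c)) := by
  rw [augIdeal, Ideal.map_span, ← Set.range_comp]; rfl

theorem gen_mem (i : ι) : gen p b c i ∈ augIdeal p b c := by
  rw [augIdeal_eq]; exact Ideal.subset_span ⟨i, rfl⟩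

include hc in
theorem map_maximalIdeal_le : (maximalIdeal R).map (algebraMap R (Alg p b c)) ≤ augIdeal p b c := by
  have hp : 2 ≤ p := Fact.out
  rw [← hc, Ideal.map_span, Ideal.span_le]
  rintro _ ⟨_, ⟨i, rfl⟩, rfl⟩
  have h : algebraMap R (Alg p b c) (c i) =
      gen p b c i ^ p - algebraMap R (Alg p b c) (b i) * gen p b c i := by rw [gen_pow]; ring
  rw [h]
  exact sub_mem (Ideal.pow_mem_of_mem _ (gen_mem p b c i) p (by omega))
    (Ideal.mul_mem_left _ _ (gen_mem p b c i))

include hc in
theorem isMaximal_augIdeal : (augIdeal p b c).IsMaximal := by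
  have hp : 2 ≤ p := Fact.out
  have hcm : ∀ i, residue R (c i) = 0 := fun i =>
    (residue_eq_zero_iff _).2 (hc.le (Ideal.subset_span ⟨i, rfl⟩))
  let φ : Alg p b c →ₐ[R] ResidueField R := lift p b c (fun _ => 0) fun i => by
    rw [zero_pow (by omega), mul_zero, zero_add]
    exact (hcm i).symm
  have hφ : Function.Surjective φ := fun y => by
    obtain ⟨r, rfl⟩ := residue_surjective y
    exact ⟨algebraMap R _ r, φ.commutes r⟩
  have hker : RingHom.ker φ = augIdeal p b c := by
    refine le_antisymm (fun x hx => ?_) ?_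
    · obtain ⟨q, rfl⟩ := Ideal.Quotient.mk_surjective x
      have hq : Ideal.Quotient.mk (ideal p b c) q - algebraMap R _ (MvPolynomial.constantCoeff q) ∈
          augIdeal p b c := by
        show Ideal.Quotient.mk (ideal p b c) q - Ideal.Quotient.mk (ideal p b c) (MvPolynomial.C _) ∈ _
        rw [← map_sub]
        exact Ideal.mem_map_of_mem _ (by
          rw [show Set.range (MvPolynomial.X : ι → MvPolynomial ι R) = MvPolynomial.X '' Set.univ from
            Set.image_univ.symm, MvPolynomial.mem_ideal_span_X_image]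
          intro m hm
          have hm0 : m ≠ 0 := by
            intro h
            rw [MvPolynomial.mem_support_iff, h] at hm
            simp [MvPolynomial.constantCoeff_eq] at hm
          obtain ⟨i, hi⟩ := Finsupp.support_nonempty_iff.2 hm0
          exact ⟨i, trivial, Finsupp.mem_support_iff.1 hi⟩)
      have hge : augIdeal p b c ≤ RingHom.ker φ := by
        rw [augIdeal_eq, Ideal.span_le]
        rintro _ ⟨i, rfl⟩
        exact lift_gen p b c _ _ i
      have h0 : residue R (MvPolynomial.constantCoeff q) = 0 := by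
        have h1 := hge hq
        rw [RingHom.mem_ker, map_sub, RingHom.mem_ker.1 hx, zero_sub, neg_eq_zero, AlgHom.commutes] at h1
        exact h1
      rw [← sub_add_cancel (Ideal.Quotient.mk (ideal p b c) q)
        (algebraMap R _ (MvPolynomial.constantCoeff q))]
      exact add_mem hq (map_maximalIdeal_le p b c hc
        (Ideal.mem_map_of_mem _ ((residue_eq_zero_iff _).1 h0)))
    · rw [augIdeal_eq, Ideal.span_le]
      rintro _ ⟨i, rfl⟩
      exact lift_gen p b c _ _ i
  rw [← hker]
  exact RingHom.ker_isMaximal_of_surjective φ hφ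

theorem isIntegral : Algebra.IsIntegral R (Alg p b c) := by
  haveI := finite p b c
  exact Algebra.IsIntegral.of_finite R _

include hb hc in
theorem eq_augIdeal_of_isMaximal (Q : Ideal (Alg p b c)) [Q.IsMaximal] : Q = augIdeal p b c := by
  haveI := isIntegral p b c
  have hQ : Q.comap (algebraMap R (Alg p b c)) = maximalIdeal R :=
    IsLocalRing.eq_maximalIdeal (Ideal.isMaximal_comap_of_isIntegral_of_isMaximal Q)
  refine ((isMaximal_augIdeal p b c hc).eq_of_le (Ideal.IsPrime.ne_top') ?_).symm
  rw [augIdeal_eq, Ideal.span_le]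
  rintro _ ⟨i, rfl⟩
  refine (‹Q.IsMaximal›.isPrime).mem_of_pow_mem p ?_
  rw [gen_pow]
  exact add_mem (Ideal.mul_mem_right _ _ (hQ.ge (hb i))) (hQ.ge (hc.le (Ideal.subset_span ⟨i, rfl⟩)))

include hb hc in
theorem isLocalRing : IsLocalRing (Alg p b c) :=
  IsLocalRing.of_unique_max_ideal ⟨augIdeal p b c, isMaximal_augIdeal p b c hc, fun Q hQ => by
    haveI := hQ; exact eq_augIdeal_of_isMaximal p b c hb hc Q⟩

include hb hc in
theorem isRegularLocalRing [IsNoetherianRing R] (hdim : (Fintype.card ι : WithBot ℕ∞) ≤ ringKrullDim R) :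
    IsRegularLocalRing (Alg p b c) := by
  haveI := isLocalRing p b c hb hc
  haveI := finite p b c
  haveI := isIntegral p b c
  haveI : IsNoetherianRing (Alg p b c) := IsNoetherianRing.of_finite R _
  have hd : ringKrullDim (Alg p b c) = ringKrullDim R :=
    (SegreDim.ringKrullDim_eq_of_injective_integral (algebraMap_injective p b c)).symm
  refine IsRegularLocalRing.of_spanFinrank_maximalIdeal_le _ (le_trans ?_ (hd ▸ hdim))
  rw [← IsLocalRing.eq_maximalIdeal (isMaximal_augIdeal p b c hc), augIdeal_eq]
  refine Nat.cast_le.2 ((Submodule.spanFinrank_span_le_ncard_of_finite (Set.finite_range _)).trans ?_)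
  rw [← Set.image_univ]
  exact (Set.ncard_image_le Set.finite_univ).trans (by simp [Set.ncard_univ])

include hb hc in
theorem isDomain [IsNoetherianRing R] (hdim : (Fintype.card ι : WithBot ℕ∞) ≤ ringKrullDim R) :
    IsDomain (Alg p b c) := by
  haveI := isRegularLocalRing p b c hb hc hdim
  exact RegLoc.isDomain _

include hb hc in
theorem isAdicComplete [IsNoetherianRing R] [IsAdicComplete (maximalIdeal R) R] :
    IsAdicComplete (augIdeal p b c) (Alg p b c) := by
  haveI := finite p b c
  haveI := isLocalRing p b c hb hc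
  haveI : IsNoetherianRing (Alg p b c) := IsNoetherianRing.of_finite R _
  haveI : IsAdicComplete (maximalIdeal R) (Alg p b c) :=
    AdicLim.isAdicComplete_of_finite (maximalIdeal R) (Alg p b c)
  set J := augIdeal p b c
  set I := (maximalIdeal R).map (algebraMap R (Alg p b c))
  obtain ⟨N, hN⟩ : ∃ N, J ^ N ≤ I := by
    refine Ideal.exists_pow_le_of_le_radical_of_fg ?_ (IsNoetherian.noetherian _)
    rw [show J = Ideal.span (Set.range (gen p b c)) from augIdeal_eq p b c, Ideal.span_le]
    rintro _ ⟨i, rfl⟩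
    refine ⟨p, ?_⟩
    rw [gen_pow]
    exact add_mem (Ideal.mul_mem_right _ _ (Ideal.mem_map_of_mem _ (hb i)))
      (Ideal.mem_map_of_mem _ (hc.le (Ideal.subset_span ⟨i, rfl⟩)))
  have hIJ : I ≤ J := map_maximalIdeal_le p b c hc
  have hsmul : ∀ (n : ℕ) (z : Alg p b c),
      z ∈ (maximalIdeal R ^ n • ⊤ : Submodule R (Alg p b c)) ↔ z ∈ I ^ n := fun n z => by
    rw [Ideal.smul_top_eq_map, Submodule.restrictScalars_mem, Ideal.map_pow]
  refine { haus' := fun x hx => ?_, prec' := fun f hf => ?_ }
  · refine IsHausdorff.haus' (I := maximalIdeal R) x fun n => ?_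
    have h := hx (N * n)
    rw [SModEq.sub_mem, sub_zero] at h ⊢
    rw [smul_eq_mul, Ideal.mul_top, pow_mul] at h
    exact (hsmul n x).2 (Ideal.pow_right_mono hN n h)
  · have hf' : ∀ {a a' : ℕ}, a ≤ a' → f a - f a' ∈ J ^ a := fun hab => by
      have h := hf hab
      rwa [SModEq.sub_mem, smul_eq_mul, Ideal.mul_top] at h
    obtain ⟨L, hL⟩ := IsPrecomplete.prec' (I := maximalIdeal R) (M := Alg p b c) (fun n => f (N * n))
      (fun {a a'} hab => by
        rw [SModEq.sub_mem, hsmul]
        refine Ideal.pow_right_mono hN a ?_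
        rw [← pow_mul]
        exact hf' (Nat.mul_le_mul_left N hab))
    refine ⟨L, fun n => ?_⟩
    have h := hL n
    rw [SModEq.sub_mem, hsmul] at h
    rw [SModEq.sub_mem, smul_eq_mul, Ideal.mul_top]
    rcases Nat.eq_zero_or_pos N with hN0 | hN0
    · exfalso
      subst hN0
      rw [pow_zero, Ideal.one_eq_top, top_le_iff] at hN
      exact (isMaximal_augIdeal p b c hc).ne_top (top_le_iff.1 (hN ▸ hIJ))
    have h1 : f n - f (N * n) ∈ J ^ n := hf' (Nat.le_mul_of_pos_left n hN0)
    rw [← sub_add_sub_cancel (f n) (f (N * n)) L]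
    exact add_mem h1 (Ideal.pow_right_mono hIJ n h)

theorem ringKrullDim_mvPowerSeries (k : Type u) [Field k] (n : ℕ) :
    (Fintype.card (Fin n) : WithBot ℕ∞) ≤ ringKrullDim (MvPowerSeries (Fin n) k) := by
  rw [Fintype.card_fin]; exact ArtObs.dim_ps_ge k n

end Groth.Agent.ASFam
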