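import Groth.Agent.ASFam.Family
import Groth.Agent.ASFam.AwayNormal

/-!
# Minor elements `a_{i₀} u_j - a_j u_{i₀}`
-/

set_option autoImplicit false

universe u

open IsLocalRing

noncomputable section

namespace Groth.Agent.ASFam

variable {k : Type u} [Field k] (p : ℕ) [Fact p.Prime] {n : ℕ}

theorem ne_zero_of_relPrime (hn : 2 ≤ n) (a : Fin n → MvPowerSeries (Fin n) k)
    (ham : ∀ i, MvPowerSeries.constantCoeff (a i) = 0) (hcop : ∀ i j, i ≠ j → IsRelPrime (a i) (a j))
    (i : Fin n) : a i ≠ 0 := by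
  intro h
  obtain ⟨j, hj⟩ : ∃ j, j ≠ i := by
    haveI : Nontrivial (Fin n) := Fin.nontrivial_iff_two_le.2 hn
    exact exists_ne i
  have hu : IsUnit (a j) := (hcop i j hj.symm) (h ▸ dvd_zero _) dvd_rfl
  rw [MvPowerSeries.isUnit_iff_constantCoeff, ham] at hu
  exact not_isUnit_zero hu

variable [CharP k p] (a : Fin n → MvPowerSeries (Fin n) k) (μ : MvPowerSeries (Fin n) k)
  (ham : ∀ i, MvPowerSeries.constantCoeff (a i) = 0) (i₀ : Fin n)

local notation "R" => MvPowerSeries (Fin n) k
local notation "A" => Alg p (fun i => (μ * a i) ^ (p - 1)) (fun i : Fin n => (MvPowerSeries.X i : R))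
local notation "uu" => gen p (fun i => (μ * a i) ^ (p - 1)) (fun i : Fin n => (MvPowerSeries.X i : R))

/-- The minor elements through `u_{i₀}`. -/
def minor (j : {j : Fin n // j ≠ i₀}) : A :=
  algebraMap R A (a i₀) * uu j.1 - algebraMap R A (a j.1) * uu i₀

omit [Fact p.Prime] [CharP k p] in
include ham in
theorem constantCoeff_mul_eq_zero (i : Fin n) : MvPowerSeries.constantCoeff (μ * a i) = 0 := by
  rw [map_mul, ham, mul_zero]

theorem minor_pow (j : {j : Fin n // j ≠ i₀}) :
    minor p a μ i₀ j ^ p = algebraMap R A ((μ * a i₀ * a j.1) ^ (p - 1)) * minor p a μ i₀ j +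
      algebraMap R A (a i₀ ^ p * MvPowerSeries.X j.1 - a j.1 ^ p * MvPowerSeries.X i₀) := by
  haveI : CharP A p := charP_alg p (fun i => μ * a i) (fun i => MvPowerSeries.X i)
  have hp : p - 1 + 1 = p := Nat.sub_add_cancel (Fact.out : p.Prime).one_le
  have e : ∀ i, algebraMap R A (a i) ^ p = algebraMap R A (a i) ^ (p - 1) * algebraMap R A (a i) :=
    fun i => by rw [← pow_succ, hp]
  rw [minor, sub_pow_char, mul_pow, mul_pow, gen_pow, gen_pow]
  simp only [map_sub, map_mul, map_pow, mul_pow]
  rw [e, e]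
  ring

/-- The complete intersection of the minor elements mapping to `A`. -/
def minorHom : Alg p (fun j : {j : Fin n // j ≠ i₀} => (μ * a i₀ * a j.1) ^ (p - 1))
    (fun j : {j : Fin n // j ≠ i₀} => a i₀ ^ p * MvPowerSeries.X j.1 - a j.1 ^ p * MvPowerSeries.X i₀)
      →ₐ[R] A :=
  lift p _ _ (minor p a μ i₀) (minor_pow p a μ i₀)

theorem shift_minor (j : Fin n → ZMod p) (l : {j : Fin n // j ≠ i₀}) :
    shift p (fun i => μ * a i) (fun i => MvPowerSeries.X i) j (minor p a μ i₀ l) =
      minor p a μ i₀ l + ZMod.castHom (dvd_refl p) R (j l.1 - j i₀) • algebraMap R A (μ * a i₀ * a l.1) := by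
  haveI : CharP A p := charP_alg p (fun i => μ * a i) (fun i => MvPowerSeries.X i)
  rw [minor, map_sub, map_mul, map_mul, AlgHom.commutes, AlgHom.commutes, shift_gen, shift_gen,
    ← algebraMap_smul A, smul_eq_mul, castHom_zmod p (algebraMap R A)]
  simp only [map_mul, map_sub]
  ring

variable (hμ : μ ≠ 0) (ha0 : ∀ i, a i ≠ 0)

include ham hμ ha0 in
theorem minorHom_injective : Function.Injective (minorHom p a μ i₀) := by
  classical
  haveI : IsDomain A := isDomain_family p (fun i => μ * a i) (constantCoeff_mul_eq_zero a μ ham)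
  haveI : CharP A p := charP_alg p (fun i => μ * a i) (fun i => MvPowerSeries.X i)
  rw [injective_iff_map_eq_zero]
  intro t ht
  let B := basis p (fun j : {j : Fin n // j ≠ i₀} => (μ * a i₀ * a j.1) ^ (p - 1))
    (fun j : {j : Fin n // j ≠ i₀} => a i₀ ^ p * MvPowerSeries.X j.1 - a j.1 ^ p * MvPowerSeries.X i₀)
  have hsum : ∑ e, B.repr t e • mono (minor p a μ i₀) e = 0 := by
    refine Eq.trans ?_ ht
    conv_rhs => rw [← B.sum_repr t]
    rw [map_sum]
    refine Finset.sum_congr rfl fun e _ => ?_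
    rw [map_smul, basis_apply]
    simp only [mono, map_prod, map_pow, minorHom, lift_gen]
  have hne : ∀ l : {j : Fin n // j ≠ i₀}, algebraMap R A (μ * a i₀ * a l.1) ≠ 0 := fun l h =>
    mul_ne_zero (mul_ne_zero hμ (ha0 i₀)) (ha0 l.1) (algebraMap_injective p _ _ (h.trans (map_zero _).symm))
  have hr := eq_zero_of_sum_eq_zero (algebraMap_injective p _ _) (minor p a μ i₀)
    (fun l => shift p (fun i => μ * a i) (fun i => MvPowerSeries.X i) (Pi.single l.1 1))
    (fun l => algebraMap R A (μ * a i₀ * a l.1)) hne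
    (fun l => by
      rw [shift_minor, Pi.single_eq_same, Pi.single_eq_of_ne (Ne.symm l.2), sub_zero, map_one, one_smul])
    (fun l => AlgHom.commutes _ _)
    (fun l l' hl => by
      rw [shift_minor, Pi.single_eq_of_ne (Subtype.coe_ne_coe.2 hl), Pi.single_eq_of_ne (Ne.symm l.2),
        sub_zero, map_zero, zero_smul, add_zero])
    _ hsum
  exact B.ext_elem fun e => by rw [map_zero]; exact congrFun hr e

include ham hμ ha0 in
theorem exists_pow_mul_mem_adjoin_minor (σ : A →ₐ[R] A)
    (hσ : ∀ i, σ (uu i) = uu i + algebraMap R A (μ * a i)) (t : A) (ht : σ t = t) :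
    ∃ N : ℕ, algebraMap R A (μ * a i₀) ^ N * t ∈ Algebra.adjoin R (Set.range (minor p a μ i₀)) := by
  classical
  haveI : IsDomain A := isDomain_family p (fun i => μ * a i) (constantCoeff_mul_eq_zero a μ ham)
  haveI : CharP A p := charP_alg p (fun i => μ * a i) (fun i => MvPowerSeries.X i)
  haveI : NeZero p := ⟨(Fact.out : p.Prime).ne_zero⟩
  let w : Fin n → A := fun i => if h : i = i₀ then uu i₀ else minor p a μ i₀ ⟨i, h⟩
  let bw : Fin n → R := fun i => if i = i₀ then (μ * a i₀) ^ (p - 1) else (μ * a i₀ * a i) ^ (p - 1)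
  let cw : Fin n → R := fun i => if i = i₀ then MvPowerSeries.X i₀ else
    a i₀ ^ p * MvPowerSeries.X i - a i ^ p * MvPowerSeries.X i₀
  have hw : ∀ i, w i ^ p = algebraMap R A (bw i) * w i + algebraMap R A (cw i) := fun i => by
    by_cases h : i = i₀
    · simp only [w, bw, cw, dif_pos h, if_pos h]; exact gen_pow p _ _ i₀
    · simp only [w, bw, cw, dif_neg h, if_neg h]; exact minor_pow p a μ i₀ ⟨i, h⟩
  let W := Algebra.adjoin R (Set.range w)
  have hall : ∀ x : A, ∃ N : ℕ, algebraMap R A (a i₀) ^ N * x ∈ W := by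
    intro x
    obtain ⟨q, rfl⟩ := Ideal.Quotient.mk_surjective x
    induction q using MvPolynomial.induction_on with
    | C r => exact ⟨0, by rw [pow_zero, one_mul]; exact W.algebraMap_mem r⟩
    | add x y hx hy =>
      obtain ⟨N, hN⟩ := hx
      obtain ⟨M, hM⟩ := hy
      refine ⟨N + M, ?_⟩
      rw [map_add, mul_add, pow_add]
      refine add_mem ?_ ?_
      · rw [mul_right_comm]
        exact mul_mem hN (pow_mem (W.algebraMap_mem _) M)
      · rw [mul_assoc]
        exact mul_mem (pow_mem (W.algebraMap_mem _) N) hM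
    | mul_X q i hq =>
      obtain ⟨N, hN⟩ := hq
      refine ⟨N + 1, ?_⟩
      rw [map_mul, pow_succ,
        show algebraMap R A (a i₀) ^ N * algebraMap R A (a i₀) * (Ideal.Quotient.mk _ q * uu i) =
          algebraMap R A (a i₀) ^ N * Ideal.Quotient.mk _ q * (algebraMap R A (a i₀) * uu i) by ring]
      refine mul_mem hN ?_
      by_cases h : i = i₀
      · subst h
        exact mul_mem (W.algebraMap_mem _) (Algebra.subset_adjoin ⟨i, by simp [w]⟩)
      · rw [show algebraMap R A (a i₀) * uu i = w i + algebraMap R A (a i) * w i₀ by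
          simp only [w, dif_neg h, dite_true, minor]; ring]
        exact add_mem (Algebra.subset_adjoin ⟨i, rfl⟩)
          (mul_mem (W.algebraMap_mem _) (Algebra.subset_adjoin ⟨i₀, rfl⟩))
  obtain ⟨N, hN⟩ := hall t
  obtain ⟨r, hr⟩ := (Submodule.mem_span_range_iff_exists_fun R).1
    (adjoin_le_span_mono (p := p) w hw ((Subalgebra.mem_toSubmodule W).2 hN))
  refine ⟨N, ?_⟩
  rw [map_mul, mul_pow, mul_assoc]
  refine mul_mem (pow_mem (Subalgebra.algebraMap_mem _ _) N) ?_
  rw [← hr]
  have h0 := (slice_sum_eq_zero_of_fixed w r i₀ σ (v := algebraMap R A (μ * a i₀))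
    (fun h => mul_ne_zero hμ (ha0 i₀) (algebraMap_injective p _ _ (h.trans (map_zero _).symm)))
    (by simp only [w, dite_true]; exact hσ i₀) (σ.commutes _)
    (fun i hi => by
      simp only [w, dif_neg hi, minor, map_sub, map_mul, AlgHom.commutes, hσ]
      ring)
    (by rw [hr, map_mul, map_pow, AlgHom.commutes, ht])).2
  rw [h0]
  refine sum_mem fun e _ => ?_
  by_cases he : e i₀ = 0
  · refine Subalgebra.smul_mem (Algebra.adjoin R (Set.range (minor p a μ i₀))) (prod_mem fun i _ => ?_) _
    by_cases h : i = i₀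
    · subst h; simp [he, one_mem]
    · refine pow_mem (Algebra.subset_adjoin ?_) _
      exact ⟨⟨i, h⟩, by simp only [w, dif_neg h]⟩
  · simp [slice, he, zero_mem]

include ham hμ ha0 in
theorem isIntegrallyClosed_away_minor :
    IsIntegrallyClosed (Localization.Away (algebraMap R (Alg p
      (fun j : {j : Fin n // j ≠ i₀} => (μ * a i₀ * a j.1) ^ (p - 1))
      (fun j : {j : Fin n // j ≠ i₀} => a i₀ ^ p * MvPowerSeries.X j.1 - a j.1 ^ p * MvPowerSeries.X i₀))
        (μ * a i₀))) := by
  classical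
  haveI := isRegularLocalRing_family p (fun i => μ * a i) (constantCoeff_mul_eq_zero a μ ham)
  haveI : IsDomain A := isDomain_family p (fun i => μ * a i) (constantCoeff_mul_eq_zero a μ ham)
  haveI : IsIntegrallyClosed A := RegLoc.isIntegrallyClosed
  haveI : CharP A p := charP_alg p (fun i => μ * a i) (fun i => MvPowerSeries.X i)
  have hinj := minorHom_injective p a μ ham i₀ hμ ha0
  haveI := hinj.isDomain
  refine isIntegrallyClosed_away (minorHom p a μ i₀).toRingHom hinj _
    (fun h => mul_ne_zero hμ (ha0 i₀) (algebraMap_injective p _ _ (h.trans (map_zero _).symm)))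
    fun b d t hd hdt => ?_
  let σ := shift p (fun i => μ * a i) (fun i => MvPowerSeries.X i) (1 : Fin n → ZMod p)
  have hfix : σ.comp (minorHom p a μ i₀) = minorHom p a μ i₀ := algHom_ext p _ _ fun l => by
    rw [AlgHom.comp_apply, minorHom, lift_gen]
    show shift p (fun i => μ * a i) (fun i => MvPowerSeries.X i) 1 (minor p a μ i₀ l) = _
    rw [shift_minor, Pi.one_apply, Pi.one_apply, sub_self, map_zero, zero_smul, add_zero]
  have hσu : ∀ i, σ (uu i) = uu i + algebraMap R A (μ * a i) := fun i => by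
    show shift p (fun i => μ * a i) (fun i => MvPowerSeries.X i) 1 _ = _
    rw [shift_gen, Pi.one_apply, map_one, one_mul]
  have ht : σ t = t := by
    have hfd : ∀ z, σ (minorHom p a μ i₀ z) = minorHom p a μ i₀ z := DFunLike.congr_fun hfix
    change minorHom p a μ i₀ d * t = minorHom p a μ i₀ b at hdt
    have h1 := congrArg σ hdt
    rw [map_mul, hfd, hfd, ← hdt] at h1
    exact mul_left_cancel₀ (fun h0 => hd (hinj (h0.trans (map_zero _).symm))) h1
  obtain ⟨N, hN⟩ := exists_pow_mul_mem_adjoin_minor p a μ ham i₀ hμ ha0 σ hσu t ht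
  have hle : Algebra.adjoin R (Set.range (minor p a μ i₀)) ≤ (minorHom p a μ i₀).range := by
    rw [Algebra.adjoin_le_iff]
    rintro _ ⟨l, rfl⟩
    exact ⟨gen p _ _ l, lift_gen p _ _ _ _ l⟩
  obtain ⟨b', hb'⟩ := hle hN
  exact ⟨N, b', by rw [hb']; exact congrArg (fun x => x ^ N * t) ((minorHom p a μ i₀).commutes _)⟩

end Groth.Agent.ASFam
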