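import Groth.Agent.ASFam.Minor
import Groth.Agent.UFDLib.Regular

/-!
# Invariants of a hyperplane `H_s` of shifts
-/

set_option autoImplicit false

universe u v

noncomputable section

namespace Groth.Agent.ASFam

/-- If `x ∣ q * y_j` for all `j` and no prime divides all `y_j`, then `x ∣ q`. -/
theorem dvd_of_forall_dvd_mul {R : Type u} [CommRing R] [IsDomain R] [UniqueFactorizationMonoid R]
    {ι : Type v} (S : Finset ι) (y : ι → R) (h : ∀ π : R, Prime π → ∃ j ∈ S, ¬ π ∣ y j)
    (hy : ∃ j ∈ S, y j ≠ 0) (x : R) : ∀ q : R, (∀ j ∈ S, x ∣ q * y j) → x ∣ q := by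
  induction x using UniqueFactorizationMonoid.induction_on_prime with
  | h₁ =>
    intro q hq
    obtain ⟨j, hj, hj0⟩ := hy
    rw [(mul_eq_zero.1 (zero_dvd_iff.1 (hq j hj))).resolve_right hj0]
  | h₂ x hx => exact fun q _ => hx.dvd
  | h₃ a π _ hπ ih =>
    intro q hq
    obtain ⟨j, hj, hj'⟩ := h π hπ
    obtain ⟨q', rfl⟩ := (hπ.dvd_or_dvd ((dvd_mul_right π a).trans (hq j hj))).resolve_right hj'
    refine mul_dvd_mul_left π (ih q' fun l hl => ?_)
    have := hq l hl
    rw [mul_assoc] at this
    exact (mul_dvd_mul_iff_left hπ.ne_zero).1 this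

variable {R : Type u} [CommRing R] {ι : Type v} [Fintype ι] (p : ℕ) [Fact (2 ≤ p)] (b c : ι → R)

/-- The exponent as a finitely supported function. -/
def expo (e : ι → Fin p) : ι →₀ ℕ := Finsupp.equivFunOnFinite.symm fun i => (e i : ℕ)

theorem repr_mk_of_lt (P : MvPolynomial ι R) (hP : ∀ m ∈ P.support, ∀ i, m i < p) (e : ι → Fin p) :
    (basis p b c).repr (Ideal.Quotient.mk (ideal p b c) P) e = P.coeff (expo p e) := by
  classical
  conv_lhs => rw [P.as_sum, map_sum, map_sum, Finsupp.finsetSum_apply]
  have hmono : ∀ m ∈ P.support, (basis p b c).repr (Ideal.Quotient.mk (ideal p b c)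
      (MvPolynomial.monomial m (P.coeff m))) e = if m = expo p e then P.coeff m else 0 := by
    intro m hm
    let e' : ι → Fin p := fun i => ⟨m i, hP m hm i⟩
    have h1 : Ideal.Quotient.mk (ideal p b c) (MvPolynomial.monomial m (P.coeff m)) =
        P.coeff m • basis p b c e' := by
      rw [basis_apply, ← algebraMap_smul (Alg p b c), smul_eq_mul, MvPolynomial.monomial_eq,
        Finsupp.prod_fintype _ _ (fun i => pow_zero _), map_mul, map_prod]
      simp only [map_pow, mono, e']
      rfl
    rw [h1, map_smul, Module.Basis.repr_self, Finsupp.smul_apply, Finsupp.single_apply, smul_eq_mul, mul_ite,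
      mul_one, mul_zero]
    refine if_congr ⟨fun h => ?_, fun h => ?_⟩ rfl rfl
    · subst h
      ext i
      simp [expo, e']
    · funext i
      exact Fin.ext (by simp [e', h, expo])
  rw [Finset.sum_congr rfl hmono, Finset.sum_ite_eq']
  split_ifs with h
  · rfl
  · exact (MvPolynomial.notMem_support_iff.1 h).symm

/-- The coefficient of `u_j ^ m` in `(∑ x_i u_i) ^ m'`. -/
theorem repr_pow_sum (x : ι → R) [DecidableEq ι] (j : ι) (m m' : ℕ) (hm : m < p) (hm' : m' < p) :
    (basis p b c).repr ((∑ i, algebraMap R (Alg p b c) (x i) * gen p b c i) ^ m')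
      (Function.update (fun _ => ⟨0, by omega⟩) j ⟨m, hm⟩) = if m' = m then x j ^ m else 0 := by
  classical
  let P : MvPolynomial ι R := (∑ i, MvPolynomial.C (x i) * MvPolynomial.X i) ^ m'
  have hP : (∑ i, algebraMap R (Alg p b c) (x i) * gen p b c i) ^ m' = Ideal.Quotient.mk (ideal p b c) P := by
    simp only [P, map_pow, map_sum, map_mul]
    rfl
  have hhom : P.IsHomogeneous m' := by
    have h1 : (∑ i, MvPolynomial.C (x i) * MvPolynomial.X i : MvPolynomial ι R).IsHomogeneous 1 :=
      MvPolynomial.IsHomogeneous.sum _ _ _ fun i _ => MvPolynomial.isHomogeneous_C_mul_X _ _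
    simpa using h1.pow m'
  have hdeg : ∀ d, P.coeff d ≠ 0 → ∑ i, d i = m' := fun d hd => by
    have := hhom hd
    rw [Finsupp.weight_apply, Finsupp.sum_fintype _ _ (fun _ => by simp)] at this
    simpa using this
  rw [hP, repr_mk_of_lt]
  swap
  · intro d hd i
    have h1 : d i ≤ ∑ l, d l := Finset.single_le_sum (fun l _ => Nat.zero_le _) (Finset.mem_univ i)
    rw [hdeg d (MvPolynomial.mem_support_iff.1 hd)] at h1
    omega
  have hexpo : expo p (Function.update (fun _ : ι => (⟨0, by omega⟩ : Fin p)) j ⟨m, hm⟩) = Finsupp.single j m := by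
    ext i
    by_cases hij : i = j
    · subst hij; simp [expo]
    · simp [expo, Function.update_of_ne hij, Finsupp.single_eq_of_ne hij]
  rw [hexpo]
  split_ifs with h
  · subst h
    have hev : MvPolynomial.eval (Pi.single j 1) P = x j ^ m' := by
      simp only [P, map_pow, map_sum, map_mul, MvPolynomial.eval_C, MvPolynomial.eval_X]
      rw [Finset.sum_eq_single j (fun i _ hi => by rw [Pi.single_eq_of_ne hi, mul_zero])
        (fun h => absurd (Finset.mem_univ _) h), Pi.single_eq_same, mul_one]
    rw [← hev, MvPolynomial.eval_eq']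
    rw [Finset.sum_eq_single (Finsupp.single j m')]
    · rw [Finset.prod_eq_one, mul_one]
      intro i _
      by_cases hij : i = j
      · subst hij; simp
      · simp [Finsupp.single_eq_of_ne hij]
    · intro d hd hne
      by_cases hex : ∃ i, i ≠ j ∧ d i ≠ 0
      · obtain ⟨i, hi, hdi⟩ := hex
        rw [Finset.prod_eq_zero (Finset.mem_univ i) (by rw [Pi.single_eq_of_ne hi, zero_pow hdi]), mul_zero]
      push Not at hex
      refine absurd (Finsupp.ext fun i => ?_) hne
      have hzero : ∀ i, i ≠ j → d i = 0 := hex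
      by_cases hij : i = j
      · subst hij
        rw [Finsupp.single_eq_same]
        have := hdeg d (MvPolynomial.mem_support_iff.1 hd)
        rwa [Finset.sum_eq_single i (fun l _ hl => hzero l hl) (fun h => absurd (Finset.mem_univ _) h)] at this
      · rw [hzero i hij, Finsupp.single_eq_of_ne hij]
    · intro h
      rw [MvPolynomial.notMem_support_iff.1 h, zero_mul]
  · by_contra h0
    exact h ((hdeg _ h0).symm.trans (by simp))

/-- The coefficient of `u_j ^ m` in a polynomial of degree `< p` in `∑ x_i u_i`. -/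
theorem repr_aeval_sum (x : ι → R) [DecidableEq ι] (j : ι) (m : Fin p) (Q : Polynomial R) (hQ : Q.natDegree < p) :
    (basis p b c).repr (Polynomial.aeval (∑ i, algebraMap R (Alg p b c) (x i) * gen p b c i) Q)
      (Function.update (fun _ => ⟨0, by omega⟩) j m) = Q.coeff m * x j ^ (m : ℕ) := by
  rw [Polynomial.aeval_eq_sum_range' hQ, map_sum, Finsupp.finsetSum_apply,
    Finset.sum_eq_single (m : ℕ)]
  · rw [map_smul, Finsupp.smul_apply, repr_pow_sum p b c x j (m : ℕ) m m.2 m.2, if_pos rfl, smul_eq_mul]
  · intro l hl hlm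
    rw [map_smul, Finsupp.smul_apply, repr_pow_sum p b c x j (m : ℕ) l m.2 (Finset.mem_range.1 hl),
      if_neg hlm, smul_zero]
  · exact fun h => absurd (Finset.mem_range.2 m.2) h

end Groth.Agent.ASFam
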