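import Groth.Agent.ASFam.Orth

/-!
# The invariants of `H_s` form `R[z_s]`
-/

set_option autoImplicit false

universe u

open Polynomial

noncomputable section

namespace Groth.Agent.ASFam

variable {k : Type u} [Field k] (p : ℕ) [Fact p.Prime] [CharP k p] {n : ℕ}
  (a : Fin n → MvPowerSeries (Fin n) k) (μ : MvPowerSeries (Fin n) k) (s : Fin n → ZMod p)

local notation "R" => MvPowerSeries (Fin n) k
local notation "A" => Alg p (fun i => (μ * a i) ^ (p - 1)) (fun i : Fin n => (MvPowerSeries.X i : R))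
local notation "uu" => gen p (fun i => (μ * a i) ^ (p - 1)) (fun i : Fin n => (MvPowerSeries.X i : R))

/-- The support of `s`. -/
def sSupp : Finset (Fin n) := Finset.univ.filter fun i => s i ≠ 0

/-- The product of the `a_i` in the support. -/
def sAll : R := ∏ i ∈ sSupp p s, a i

/-- The coefficients of `z_s`. -/
def zCoef (i : Fin n) : R := ZMod.castHom (dvd_refl p) R (s i) * ∏ j ∈ (sSupp p s).erase i, a j

/-- The element `z_s`. -/
def zElt : A := ∑ i, algebraMap R A (zCoef p a s i) * uu i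

/-- The constant term of `f_s`. -/
def zConst : R := ∑ i, ZMod.castHom (dvd_refl p) R (s i) * (∏ j ∈ (sSupp p s).erase i, a j) ^ p *
  MvPowerSeries.X i

theorem zCoef_mul (i : Fin n) :
    zCoef p a s i * a i = ZMod.castHom (dvd_refl p) R (s i) * sAll p a s := by
  by_cases h : s i = 0
  · simp [zCoef, h]
  · rw [zCoef, mul_assoc, sAll, ← Finset.mul_prod_erase _ a (show i ∈ sSupp p s by simp [sSupp, h]),
      mul_comm (a i)]

theorem zElt_pow : zElt p a μ s ^ p = algebraMap R A ((μ * sAll p a s) ^ (p - 1)) * zElt p a μ s +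
    algebraMap R A (zConst p a s) := by
  haveI : CharP A p := charP_alg p (fun i => μ * a i) (fun i => MvPowerSeries.X i)
  rw [zElt, sum_pow_char, Finset.mul_sum, zConst, map_sum, ← Finset.sum_add_distrib]
  refine Finset.sum_congr rfl fun i _ => ?_
  rw [mul_pow, gen_pow, mul_add, ← mul_assoc, ← mul_assoc, ← map_pow, ← map_mul, ← map_mul, ← map_mul]
  have hc : ZMod.castHom (dvd_refl p) R (s i) ^ p = ZMod.castHom (dvd_refl p) R (s i) := by
    rw [← map_pow, ZMod.pow_card]
  have hp : p - 1 + 1 = p := Nat.sub_add_cancel (Fact.out : p.Prime).one_le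
  have h1 : zCoef p a s i ^ p * (μ * a i) ^ (p - 1) = (μ * sAll p a s) ^ (p - 1) * zCoef p a s i := by
    have hrfl : zCoef p a s i ^ p = zCoef p a s i ^ (p - 1) * zCoef p a s i := by rw [← pow_succ, hp]
    rw [hrfl, mul_right_comm, ← mul_pow, mul_left_comm, zCoef_mul, mul_left_comm, mul_pow,
      ← map_pow]
    by_cases h : s i = 0
    · simp [zCoef, h]
    · rw [ZMod.pow_card_sub_one_eq_one h, map_one, one_mul]
  have h2 : zCoef p a s i ^ p = ZMod.castHom (dvd_refl p) R (s i) * (∏ j ∈ (sSupp p s).erase i, a j) ^ p := by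
    rw [zCoef, mul_pow, hc]
  rw [h1, h2]

theorem shift_zElt (ν : Fin n → ZMod p) :
    shift p (fun i => μ * a i) (fun i => MvPowerSeries.X i) ν (zElt p a μ s) = zElt p a μ s +
      algebraMap R A (ZMod.castHom (dvd_refl p) R (∑ i, ν i * s i) * (μ * sAll p a s)) := by
  haveI : CharP A p := charP_alg p (fun i => μ * a i) (fun i => MvPowerSeries.X i)
  rw [zElt, map_sum, map_sum, Finset.sum_mul, map_sum, ← Finset.sum_add_distrib]
  refine Finset.sum_congr rfl fun i _ => ?_
  rw [map_mul, AlgHom.commutes, shift_gen, ← castHom_zmod p (algebraMap R A), mul_add, ← map_mul, ← map_mul,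
    map_mul (ZMod.castHom (dvd_refl p) R)]
  congr 2
  calc zCoef p a s i * (ZMod.castHom (dvd_refl p) R (ν i) * (μ * a i))
      = ZMod.castHom (dvd_refl p) R (ν i) * μ * (zCoef p a s i * a i) := by ring
    _ = _ := by rw [zCoef_mul]; ring

variable (ham : ∀ i, MvPowerSeries.constantCoeff (a i) = 0) (hμ : μ ≠ 0) (ha0 : ∀ i, a i ≠ 0)

omit [CharP k p] in
include ha0 in
theorem sAll_ne_zero : sAll p a s ≠ 0 := Finset.prod_ne_zero_iff.2 fun i _ => ha0 i

include ha0 in
theorem zCoef_ne_zero {i : Fin n} (hi : s i ≠ 0) : zCoef p a s i ≠ 0 :=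
  mul_ne_zero (fun h => hi ((ZMod.castHom (dvd_refl p) R).injective (h.trans (map_zero _).symm)))
    (Finset.prod_ne_zero_iff.2 fun j _ => ha0 j)

include ha0 in
theorem eq_zero_of_aeval_zElt (i₀ : Fin n) (hi₀ : s i₀ ≠ 0) (Q : R[X]) (hQ : Q.natDegree < p)
    (h : aeval (zElt p a μ s) Q = 0) : Q = 0 := by
  refine Polynomial.ext fun m => ?_
  rw [coeff_zero]
  by_cases hm : m < p
  · have := repr_aeval_sum p (fun i => (μ * a i) ^ (p - 1)) (fun i => MvPowerSeries.X i) (zCoef p a s) i₀
      ⟨m, hm⟩ Q hQ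
    rw [show (∑ i, algebraMap R A (zCoef p a s i) * uu i) = zElt p a μ s from rfl, h, map_zero,
      Finsupp.zero_apply] at this
    exact (mul_eq_zero.1 this.symm).resolve_right (pow_ne_zero _ (zCoef_ne_zero p a s ha0 hi₀))
  · exact coeff_eq_zero_of_natDegree_lt (by omega)

include ham hμ ha0 in
theorem exists_aeval_of_fixed (i₀ : Fin n) (hi₀ : s i₀ ≠ 0) (t : A)
    (hfix : ∀ ν : Fin n → ZMod p, ∑ i, ν i * s i = 0 →
      shift p (fun i => μ * a i) (fun i => MvPowerSeries.X i) ν t = t) :
    ∃ (N : ℕ) (Q : R[X]), Q.natDegree < p ∧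
      algebraMap R A (zCoef p a s i₀ ^ N) * t = aeval (zElt p a μ s) Q := by
  classical
  haveI : IsDomain A := isDomain_family p (fun i => μ * a i) (constantCoeff_mul_eq_zero a μ ham)
  haveI : CharP A p := charP_alg p (fun i => μ * a i) (fun i => MvPowerSeries.X i)
  let w : Fin n → A := fun i => if i = i₀ then zElt p a μ s else uu i
  let bw : Fin n → R := fun i => if i = i₀ then (μ * sAll p a s) ^ (p - 1) else (μ * a i) ^ (p - 1)
  let cw : Fin n → R := fun i => if i = i₀ then zConst p a s else MvPowerSeries.X i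
  have hw : ∀ i, w i ^ p = algebraMap R A (bw i) * w i + algebraMap R A (cw i) := fun i => by
    by_cases h : i = i₀
    · simp only [w, bw, cw, if_pos h]; exact zElt_pow p a μ s
    · simp only [w, bw, cw, if_neg h]; exact gen_pow p _ _ i
  let W := Algebra.adjoin R (Set.range w)
  set D := algebraMap R A (zCoef p a s i₀) with hD
  have hall : ∀ x : A, ∃ N : ℕ, D ^ N * x ∈ W := by
    intro x
    obtain ⟨q, rfl⟩ := Ideal.Quotient.mk_surjective x
    induction q using MvPolynomial.induction_on with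
    | C r => exact ⟨0, by rw [pow_zero, one_mul]; exact W.algebraMap_mem r⟩
    | add x y hx hy =>
      obtain ⟨N, hN⟩ := hx
      obtain ⟨M, hM⟩ := hy
      refine ⟨N + M, ?_⟩
      rw [map_add, mul_add, pow_add]
      refine add_mem ?_ ?_
      · rw [mul_right_comm]
        exact mul_mem hN (pow_mem (W.algebraMap_mem _) M)
      · rw [mul_assoc]
        exact mul_mem (pow_mem (W.algebraMap_mem _) N) hM
    | mul_X q i hq =>
      obtain ⟨N, hN⟩ := hq
      refine ⟨N + 1, ?_⟩
      rw [map_mul, pow_succ,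
        show D ^ N * D * (Ideal.Quotient.mk _ q * uu i) = D ^ N * Ideal.Quotient.mk _ q * (D * uu i) by ring]
      refine mul_mem hN ?_
      by_cases h : i = i₀
      · subst h
        have hz : zElt p a μ s = D * uu i + ∑ l ∈ Finset.univ.erase i, algebraMap R A (zCoef p a s l) * uu l :=
          (Finset.add_sum_erase _ (fun l => algebraMap R A (zCoef p a s l) * uu l) (Finset.mem_univ i)).symm
        rw [eq_sub_of_add_eq hz.symm]
        refine sub_mem (Algebra.subset_adjoin ⟨i, if_pos rfl⟩) (sum_mem fun l hl => ?_)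
        exact mul_mem (W.algebraMap_mem _) (Algebra.subset_adjoin ⟨l, if_neg (Finset.ne_of_mem_erase hl)⟩)
      · exact mul_mem (W.algebraMap_mem _) (Algebra.subset_adjoin ⟨i, if_neg h⟩)
  obtain ⟨N, hN⟩ := hall t
  obtain ⟨r, hr⟩ := (Submodule.mem_span_range_iff_exists_fun R).1
    (adjoin_le_span_mono (p := p) w hw ((Subalgebra.mem_toSubmodule W).2 hN))
  let τν : Fin n → Fin n → ZMod p := fun j =>
    if j = i₀ then Pi.single i₀ 1 else Pi.single j 1 - Pi.single i₀ (s j * (s i₀)⁻¹)
  let v : Fin n → A := fun j =>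
    if j = i₀ then algebraMap R A (ZMod.castHom (dvd_refl p) R (s i₀) * (μ * sAll p a s))
    else algebraMap R A (μ * a j)
  have hsum : ∀ j, j ≠ i₀ → ∑ i, τν j i * s i = 0 := fun j hj => by
    simp only [τν, if_neg hj, Pi.sub_apply, sub_mul, Finset.sum_sub_distrib, Pi.single_apply, ite_mul,
      one_mul, zero_mul, Finset.sum_ite_eq', Finset.mem_univ, if_true]
    rw [mul_assoc, inv_mul_cancel₀ hi₀, mul_one, sub_self]
  have hinj : Function.Injective (algebraMap R A) := algebraMap_injective p _ _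
  have hz0 : ∀ j, r = r ∧ v j ≠ 0 := fun j => by
    refine ⟨rfl, fun h => ?_⟩
    by_cases hj : j = i₀
    · simp only [v, if_pos hj] at h
      exact mul_ne_zero (fun h0 => hi₀ ((ZMod.castHom (dvd_refl p) R).injective (h0.trans (map_zero _).symm)))
        (mul_ne_zero hμ (sAll_ne_zero p a s ha0)) (hinj (h.trans (map_zero _).symm))
    · simp only [v, if_neg hj] at h
      exact mul_ne_zero hμ (ha0 j) (hinj (h.trans (map_zero _).symm))
  have hτu : ∀ j, shift p (fun i => μ * a i) (fun i => MvPowerSeries.X i) (τν j) (w j) = w j + v j := fun j => by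
    by_cases hj : j = i₀
    · simp only [w, v, τν, if_pos hj]
      rw [shift_zElt]
      simp only [Pi.single_apply, ite_mul, one_mul, zero_mul, Finset.sum_ite_eq', Finset.mem_univ, if_true]
    · simp only [w, v, τν, if_neg hj]
      rw [shift_gen, Pi.sub_apply, Pi.single_eq_same, Pi.single_eq_of_ne hj, sub_zero, map_one, one_mul]
  have hτne : ∀ j i, i ≠ j →
      shift p (fun i => μ * a i) (fun i => MvPowerSeries.X i) (τν j) (w i) = w i := fun j i hij => by
    by_cases hi : i = i₀
    · simp only [w, if_pos hi]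
      rw [shift_zElt, hsum j (fun h => hij (hi.trans h.symm)), map_zero, zero_mul, map_zero, add_zero]
    · simp only [w, if_neg hi]
      rw [shift_gen]
      have : τν j i = 0 := by
        by_cases hj : j = i₀
        · simp only [τν, if_pos hj]; exact Pi.single_eq_of_ne hi _
        · simp only [τν, if_neg hj, Pi.sub_apply, Pi.single_eq_of_ne hij, Pi.single_eq_of_ne hi, sub_self]
      rw [this, map_zero, zero_mul, add_zero]
  have hτv : ∀ j, shift p (fun i => μ * a i) (fun i => MvPowerSeries.X i) (τν j) (v j) = v j := fun j => by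
    by_cases hj : j = i₀
    · simp only [v, if_pos hj]; exact AlgHom.commutes _ _
    · simp only [v, if_neg hj]; exact AlgHom.commutes _ _
  have hzero : ∀ e : Fin n → Fin p, ∀ j, j ≠ i₀ → (e j : ℕ) ≠ 0 → r e = 0 := fun e j hj he =>
    eq_zero_of_fixed hinj w (fun j => shift p (fun i => μ * a i) (fun i => MvPowerSeries.X i) (τν j)) v
      (fun j => (hz0 j).2) hτu hτv hτne r j
      (by rw [hr, map_mul, map_pow, AlgHom.commutes, hfix _ (hsum j hj)]) he
  let e0 : Fin p → Fin n → Fin p := fun m => Function.update (fun _ => ⟨0, (Fact.out : p.Prime).pos⟩) i₀ m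
  refine ⟨N, ∑ m : Fin p, monomial (m : ℕ) (r (e0 m)), ?_, ?_⟩
  · refine lt_of_le_of_lt (natDegree_sum_le_of_forall_le (n := p - 1) _ _ fun m _ => ?_)
      (Nat.sub_one_lt (Fact.out : p.Prime).ne_zero)
    exact (natDegree_monomial_le _).trans (by have := m.2; omega)
  · rw [map_pow, ← hr, map_sum]
    simp only [aeval_monomial]
    have hmono : ∀ m, mono w (e0 m) = zElt p a μ s ^ (m : ℕ) := fun m => by
      rw [mono, Finset.prod_eq_single i₀ (fun i _ hi => by simp [e0, Function.update_of_ne hi])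
        (fun h => absurd (Finset.mem_univ _) h)]
      simp [e0, w]
    refine (Finset.sum_of_injOn e0 (fun m _ m' _ h => by simpa [e0] using congrFun h i₀)
      (fun m _ => Finset.mem_univ _) (fun e _ he => ?_) (fun m _ => ?_)).symm
    · by_cases hex : ∃ j, j ≠ i₀ ∧ (e j : ℕ) ≠ 0
      · obtain ⟨j, hj, hej⟩ := hex
        rw [hzero e j hj hej, zero_smul]
      · push Not at hex
        refine absurd ⟨e i₀, by simp, funext fun i => ?_⟩ he
        by_cases hi : i = i₀
        · subst hi; simp [e0]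
        · simp only [e0, Function.update_of_ne hi]
          exact Fin.ext (hex i hi).symm
    · rw [hmono, ← algebraMap_smul A (r (e0 m)), smul_eq_mul]

include ham hμ ha0 in
theorem mem_range_aeval_of_fixed (hcop : ∀ i j, i ≠ j → IsRelPrime (a i) (a j)) (hs : s ≠ 0) (t : A)
    (hfix : ∀ ν : Fin n → ZMod p, ∑ i, ν i * s i = 0 →
      shift p (fun i => μ * a i) (fun i => MvPowerSeries.X i) ν t = t) :
    t ∈ (aeval (zElt p a μ s) : R[X] →ₐ[R] A).range := by
  classical
  haveI : IsDomain R := NoZeroDivisors.to_isDomain _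
  haveI : UniqueFactorizationMonoid R := UFDLib.ufd_of_isRegularLocalRing _
  haveI : IsDomain A := isDomain_family p (fun i => μ * a i) (constantCoeff_mul_eq_zero a μ ham)
  obtain ⟨i₀, hi₀⟩ := Function.ne_iff.1 hs
  obtain ⟨N, Q, hQ, hQt⟩ := exists_aeval_of_fixed p a μ s ham hμ ha0 i₀ hi₀ t hfix
  set D := zCoef p a s i₀ ^ N with hD
  have hunit : ∀ i, s i ≠ 0 → IsUnit (ZMod.castHom (dvd_refl p) R (s i)) := fun i hi =>
    (isUnit_iff_ne_zero.2 hi).map _
  have key : ∀ (j : Fin n) (m : Fin p), s j ≠ 0 →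
      D ∣ Q.coeff m * (∏ l ∈ (sSupp p s).erase j, a l) ^ (m : ℕ) := by
    intro j m hj
    have h1 := repr_aeval_sum p (fun i => (μ * a i) ^ (p - 1)) (fun i => MvPowerSeries.X i) (zCoef p a s) j m Q hQ
    rw [show (∑ i, algebraMap R A (zCoef p a s i) * uu i) = zElt p a μ s from rfl, ← hQt,
      show algebraMap R A D * t = D • t by rw [← algebraMap_smul A D t, smul_eq_mul], map_smul, Finsupp.smul_apply,
      smul_eq_mul] at h1
    have h2 := (Dvd.intro _ rfl).trans h1.dvd
    rw [zCoef, mul_pow, ← mul_assoc, mul_comm (Q.coeff m), mul_assoc] at h2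
    exact (IsUnit.dvd_mul_left ((hunit j hj).pow _)).1 h2
  have hdvd : ∀ m : ℕ, D ∣ Q.coeff m := by
    intro m
    rcases lt_or_ge m p with hm | hm
    swap
    · rw [coeff_eq_zero_of_natDegree_lt (by omega)]; exact dvd_zero _
    refine dvd_of_forall_dvd_mul (sSupp p s) (fun j => (∏ l ∈ (sSupp p s).erase j, a l) ^ m)
      (fun π hπ => ?_) ⟨i₀, by simp [sSupp]; exact hi₀, pow_ne_zero _ (Finset.prod_ne_zero_iff.2 fun l _ => ha0 l)⟩
      D (Q.coeff m) (fun j hj => key j ⟨m, hm⟩ (by simpa [sSupp] using hj))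
    by_contra hall
    push Not at hall
    obtain ⟨l, hl, hπl⟩ := (hπ.dvd_finset_prod_iff _).1
      (hπ.dvd_of_dvd_pow (hall i₀ (by simp [sSupp]; exact hi₀)))
    obtain ⟨l', hl', hπl'⟩ := (hπ.dvd_finset_prod_iff _).1
      (hπ.dvd_of_dvd_pow (hall l (Finset.mem_of_mem_erase hl)))
    exact hπ.not_unit (hcop l l' (Finset.ne_of_mem_erase hl').symm hπl hπl')
  choose q hq using hdvd
  refine ⟨∑ m ∈ Finset.range p, monomial m (q m), ?_⟩
  refine mul_left_cancel₀ (fun h => pow_ne_zero N (zCoef_ne_zero p a s ha0 hi₀)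
    (algebraMap_injective p (fun i => (μ * a i) ^ (p - 1)) (fun i => MvPowerSeries.X i)
      (h.trans (map_zero _).symm))) (Eq.trans ?_ hQt.symm)
  show algebraMap R A D * aeval (zElt p a μ s) _ = _
  conv_rhs => rw [Q.as_sum_range' p hQ]
  rw [map_sum, map_sum, Finset.mul_sum]
  refine Finset.sum_congr rfl fun m _ => ?_
  rw [aeval_monomial, aeval_monomial, ← mul_assoc, ← map_mul, ← hq]

end Groth.Agent.ASFam
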